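import Mathlib

/-!
# A two-group generated by involutions of few classes

If `P` is generated by a conjugation invariant set `X` of involutions whose images under a
homomorphism `χ` take at most two independent values and by further involutions in the kernel,
and any two members of `X` of the same value commute or commute with a third one of this value,
then squares in `P ⊓ χ.ker` are commutators of this subgroup.
-/

set_option autoImplicit false

namespace Cfsg.Lib.OrthSylowTwo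

open scoped commutatorElement

universe u v

variable {Γ : Type u} [Group Γ] {A : Type v} [CommGroup A]

theorem sq_mem_commutator (χ : Γ →* A) (c₁ c₂ : A) (h1 : c₁ ≠ 1) (h2 : c₂ ≠ 1) (h12 : c₁ * c₂ ≠ 1)
    (h11 : c₁ * c₁ = 1) (h22 : c₂ * c₂ = 1) (P : Subgroup Γ) (X S : Set Γ)
    (hgen : Subgroup.closure (X ∪ S) = P) (hXinv : ∀ x ∈ X, x * x = 1)
    (hXconj : ∀ g ∈ P, ∀ x ∈ X, g * x * g⁻¹ ∈ X)
    (hXχ : ∀ x ∈ X, χ x = c₁ ∨ χ x = c₂) (hSinv : ∀ s ∈ S, s * s = 1) (hSχ : ∀ s ∈ S, χ s = 1)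
    (hcomm : ∀ r ∈ X, ∀ s ∈ X, χ r = χ s →
      Commute r s ∨ ∃ t ∈ X, χ t = χ r ∧ Commute r t ∧ Commute s t) :
    ∀ x ∈ P ⊓ χ.ker, x ^ 2 ∈ ⁅P ⊓ χ.ker, P ⊓ χ.ker⁆ := by
  classical
  set K := P ⊓ χ.ker with hK
  set C := ⁅K, K⁆ with hC
  have hXP : ∀ x ∈ X, x ∈ P := fun x hx => hgen ▸ Subgroup.subset_closure (Or.inl hx)
  have hSP : ∀ s ∈ S, s ∈ P := fun s hs => hgen ▸ Subgroup.subset_closure (Or.inr hs)
  have hKconj : ∀ g ∈ P, ∀ x ∈ K, g * x * g⁻¹ ∈ K := by
    intro g hg x hx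
    refine ⟨P.mul_mem (P.mul_mem hg hx.1) (P.inv_mem hg), ?_⟩
    show χ (g * x * g⁻¹) = 1
    rw [map_mul, map_mul, MonoidHom.mem_ker.mp hx.2, mul_one, map_inv, mul_inv_cancel]
  have hCK : C ≤ K := Subgroup.commutator_le_self K
  have hbr : ∀ a ∈ K, ∀ b ∈ K, ⁅a, b⁆ ∈ C := fun a ha b hb => Subgroup.commutator_mem_commutator ha hb
  have hCconj : ∀ g ∈ P, ∀ x ∈ C, g * x * g⁻¹ ∈ C := by
    intro g hg
    have hle : C ≤ C.comap (MulAut.conj g).toMonoidHom := by
      rw [hC, Subgroup.commutator_le]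
      intro a ha b hb
      rw [Subgroup.mem_comap, map_commutatorElement]
      exact Subgroup.commutator_mem_commutator (hKconj g hg a ha) (hKconj g hg b hb)
    exact fun x hx => hle hx
  have hsq_mul : ∀ a ∈ K, ∀ b ∈ K, a ^ 2 ∈ C → b ^ 2 ∈ C → (a * b) ^ 2 ∈ C := by
    intro a ha b hb h1' h2'
    rw [show (a * b) ^ 2 = a * ⁅b, a⁆ * a⁻¹ * (a ^ 2 * b ^ 2) by
      simp only [commutatorElement_def, pow_two]; group]
    exact C.mul_mem (hCconj a ha.1 _ (hbr b hb a ha)) (C.mul_mem h1' h2')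
  let T : Subgroup Γ :=
    { carrier := {x | x ∈ K ∧ x ^ 2 ∈ C}
      mul_mem' := fun {a b} ha hb => ⟨K.mul_mem ha.1 hb.1, hsq_mul a ha.1 b hb.1 ha.2 hb.2⟩
      one_mem' := ⟨K.one_mem, by simp [C.one_mem]⟩
      inv_mem' := fun {a} ha => ⟨K.inv_mem ha.1, by rw [inv_pow]; exact C.inv_mem ha.2⟩ }
  have hT : ∀ x, x ∈ T ↔ x ∈ K ∧ x ^ 2 ∈ C := fun x => Iff.rfl
  have hTn : (T.subgroupOf P).Normal := by
    refine ⟨fun x hx g => ?_⟩
    rw [Subgroup.mem_subgroupOf, hT] at hx ⊢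
    simp only [Subgroup.coe_mul, InvMemClass.coe_inv]
    exact ⟨hKconj g g.2 _ hx.1, by rw [conj_pow]; exact hCconj g g.2 _ hx.2⟩
  -- same class pairs lie in `T`
  have hpair : ∀ r ∈ X, ∀ s ∈ X, χ r = χ s → r * s ∈ T := by
    intro r hr s hs he
    have hrc : χ r * χ r = 1 := by rw [← map_mul, hXinv r hr, map_one]
    have hrsK : ∀ u ∈ X, ∀ w ∈ X, χ u = χ r → χ w = χ r → u * w ∈ K := fun u hu w hw hu' hw' =>
      ⟨P.mul_mem (hXP u hu) (hXP w hw), show χ (u * w) = 1 by rw [map_mul, hu', hw', hrc]⟩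
    refine ⟨hrsK r hr s hs rfl he.symm, ?_⟩
    rcases hcomm r hr s hs he with hc | ⟨t, ht, htc, hrt, hst⟩
    · rw [hc.mul_pow, pow_two, pow_two, hXinv r hr, hXinv s hs, mul_one]
      exact C.one_mem
    have key : (r * s) ^ 2 = ⁅r * t, s * t⁆ := by
      have e : ∀ u : Γ, u * u = 1 → u⁻¹ = u := fun u hu => inv_eq_of_mul_eq_one_right hu
      rw [commutatorElement_def, mul_inv_rev, mul_inv_rev, e r (hXinv r hr), e s (hXinv s hs),
        e t (hXinv t ht)]
      calc (r * s) ^ 2 = r * s * (r * s) := pow_two _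
        _ = r * (t * t) * s * r * (t * t) * s := by rw [hXinv t ht]; group
        _ = (r * t) * (t * s) * r * t * (t * s) := by group
        _ = (r * t) * (s * t) * (t * r) * (t * s) := by
          rw [← hst.eq, mul_assoc (r * t * (s * t)) r t, hrt.eq]
    rw [key]
    exact hbr _ (hrsK r hr t ht rfl htc) _ (hrsK s hs t ht he.symm htc)
  have hSmem : ∀ s ∈ S, s ∈ T := fun s hs =>
    ⟨⟨hSP s hs, MonoidHom.mem_ker.mpr (hSχ s hs)⟩, by rw [pow_two, hSinv s hs]; exact C.one_mem⟩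
  let π : P →* P ⧸ T.subgroupOf P := QuotientGroup.mk' (T.subgroupOf P)
  have hπ1 : ∀ x : P, π x = 1 ↔ (x : Γ) ∈ T := fun x => QuotientGroup.eq_one_iff x
  have hπX : ∀ r (hr : r ∈ X) s (hs : s ∈ X), χ r = χ s → π ⟨r, hXP r hr⟩ = π ⟨s, hXP s hs⟩ := by
    intro r hr s hs he
    rw [← mul_inv_eq_one, ← map_inv, ← map_mul, hπ1]
    show r * s⁻¹ ∈ T
    rw [inv_eq_of_mul_eq_one_right (hXinv s hs)]
    exact hpair r hr s hs he
  have rep : ∀ c : A, c * c = 1 → ∃ a : P, a * a = 1 ∧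
      (∀ r (hr : r ∈ X), χ r = c → π ⟨r, hXP r hr⟩ = π a) ∧ ((χ a = c ∧ (a : Γ) ∈ X) ∨ a = 1) := by
    intro c _
    by_cases h : ∃ r ∈ X, χ r = c
    · obtain ⟨r, hr, hrc⟩ := h
      exact ⟨⟨r, hXP r hr⟩, Subtype.ext (hXinv r hr), fun s hs hsc => hπX s hs r hr (hsc.trans hrc.symm),
        Or.inl ⟨hrc, hr⟩⟩
    · exact ⟨1, mul_one 1, fun r hr hrc => absurd ⟨r, hr, hrc⟩ h, Or.inr rfl⟩
  obtain ⟨a, haa, haπ, hac⟩ := rep c₁ h11
  obtain ⟨b, hbb, hbπ, hbc⟩ := rep c₂ h22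
  have hab : Commute (π a) (π b) := by
    rcases hac with ⟨hac, haX⟩ | rfl
    · rcases hbc with ⟨hbc, hbX⟩ | rfl
      · have hconj : π (b * a * b⁻¹) = π a := by
          have hmem := hXconj b b.2 a haX
          refine (congrArg π (Subtype.ext rfl : b * a * b⁻¹ = ⟨(b : Γ) * a * (b : Γ)⁻¹, hXP _ hmem⟩)).trans ?_
          refine haπ _ hmem ?_
          rw [map_mul, map_mul, map_inv, hac, mul_comm (χ (b : Γ)), mul_inv_cancel_right]
        show π a * π b = π b * π a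
        conv_lhs => rw [← hconj]
        rw [map_mul, map_mul, map_inv, inv_mul_cancel_right]
      · rw [map_one]; exact Commute.one_right _
    · rw [map_one]; exact Commute.one_left _
  have ha2 : π a * π a = 1 := by rw [← map_mul, haa, map_one]
  have hb2 : π b * π b = 1 := by rw [← map_mul, hbb, map_one]
  let Good : P → Prop := fun x => π x = 1 ∨ π x = π a ∨ π x = π b ∨ π x = π a * π b
  have hgenP : ∀ g, g ∈ X ∪ S → ∀ (hg : g ∈ P), π ⟨g, hg⟩ = 1 ∨ π ⟨g, hg⟩ = π a ∨ π ⟨g, hg⟩ = π b := by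
    rintro g (hg | hg) hgP
    · rcases hXχ g hg with h | h
      · exact Or.inr (Or.inl (haπ g hg h))
      · exact Or.inr (Or.inr (hbπ g hg h))
    · exact Or.inl ((hπ1 _).mpr (hSmem g hg))
  have hmul : ∀ (g : P), (π g = 1 ∨ π g = π a ∨ π g = π b) → ∀ y, Good y → Good (g * y) := by
    intro g hg y hy
    have e1 : π b * π a = π a * π b := hab.eq.symm
    have e2 : π a * (π a * π b) = π b := by rw [← mul_assoc, ha2, one_mul]
    have e3 : π b * (π a * π b) = π a := by rw [← mul_assoc, e1, mul_assoc, hb2, mul_one]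
    simp only [Good, map_mul]
    rcases hg with hg | hg | hg <;> rcases hy with hy | hy | hy | hy <;>
      simp [hg, hy, ha2, hb2, e1, e2, e3]
  have hall : ∀ x (hx : x ∈ P), Good ⟨x, hx⟩ := by
    intro x hx
    have hx' : x ∈ Subgroup.closure (X ∪ S) := hgen.symm ▸ hx
    suffices ∀ hxP : x ∈ P, Good ⟨x, hxP⟩ from this hx
    induction hx' using Subgroup.closure_induction_left with
    | one => exact fun _ => Or.inl (map_one π)
    | mul_left g hg y hy ih =>
      intro hgy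
      have hgP : g ∈ P := hgen ▸ Subgroup.subset_closure hg
      have hyP : y ∈ P := hgen ▸ hy
      exact hmul ⟨g, hgP⟩ (hgenP g hg hgP) ⟨y, hyP⟩ (ih hyP hyP)
    | inv_mul_cancel g hg y hy ih =>
      intro hgy
      have hgP : g ∈ P := hgen ▸ Subgroup.subset_closure hg
      have hginv : g⁻¹ = g := inv_eq_of_mul_eq_one_right (hg.elim (hXinv g) (hSinv g))
      have hyP : y ∈ P := hgen ▸ hy
      have := hmul ⟨g, hgP⟩ (hgenP g hg hgP) ⟨y, hyP⟩ (ih hyP hyP)
      have he : (⟨g⁻¹ * y, hgy⟩ : P) = ⟨g, hgP⟩ * ⟨y, hgen ▸ hy⟩ := Subtype.ext (by simp [hginv])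
      rw [he]; exact this
  intro x hx
  suffices x ∈ T from this.2
  have hxP : x ∈ P := hx.1
  rw [← hπ1 ⟨x, hxP⟩]
  have hTker : ∀ y z : P, π y = π z → χ (y : Γ) = χ (z : Γ) := by
    intro y z h
    rw [← mul_inv_eq_one, ← map_inv, ← map_mul, hπ1] at h
    have := MonoidHom.mem_ker.mp h.1.2
    simpa [mul_inv_eq_one] using this
  have hx1 : χ x = 1 := MonoidHom.mem_ker.mp hx.2
  rcases hall x hxP with h | h | h | h
  · exact h
  · rw [h]
    rcases hac with ⟨hac, -⟩ | rfl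
    · exact absurd (hac.symm.trans ((hTker _ _ h).symm.trans hx1)) h1
    · exact map_one π
  · rw [h]
    rcases hbc with ⟨hbc, -⟩ | rfl
    · exact absurd (hbc.symm.trans ((hTker _ _ h).symm.trans hx1)) h2
    · exact map_one π
  · rw [h]
    have h' := (hTker _ (a * b) (by rw [h, map_mul])).symm.trans hx1
    rw [Subgroup.coe_mul, map_mul] at h'
    rcases hac with ⟨hac, -⟩ | rfl <;> rcases hbc with ⟨hbc, -⟩ | rfl
    · exact absurd (by rw [← hac, ← hbc]; exact h') h12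
    · rw [Subgroup.coe_one, map_one, mul_one, hac] at h'; exact absurd h' h1
    · rw [Subgroup.coe_one, map_one, one_mul, hbc] at h'; exact absurd h' h2
    · rw [map_one, one_mul]

end Cfsg.Lib.OrthSylowTwo
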