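import Mathlib

/-!
# Two-adic valuations of the orders of orthogonal groups
-/

set_option autoImplicit false

namespace Cfsg.Lib.OrthSylowTwo

variable {q : ℕ}

theorem padic_two_odd {n : ℕ} (h : ¬ 2 ∣ n) : padicValNat 2 n = 0 := padicValNat.eq_zero_of_not_dvd h

theorem padic_two_of_mod_four {n : ℕ} (h : n % 4 = 2) : padicValNat 2 n = 1 := by
  haveI : Fact (Nat.Prime 2) := ⟨Nat.prime_two⟩
  obtain ⟨j, rfl⟩ : 2 ∣ n := by omega
  rw [padicValNat.mul (by norm_num) (by omega), padicValNat_self, padic_two_odd (by omega)]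

/-- The valuation of `q^(2i) - 1` for odd `q`. -/
theorem padic_sq_pow (hq : Odd q) (h1 : 1 < q) {i : ℕ} (hi : i ≠ 0) :
    padicValNat 2 (q ^ (2 * i) - 1) = padicValNat 2 (q ^ 2 - 1) + padicValNat 2 i := by
  haveI : Fact (Nat.Prime 2) := ⟨Nat.prime_two⟩
  have hodd := Nat.odd_iff.mp hq
  have key : ∀ j, j ≠ 0 → padicValNat 2 (q ^ (2 * j) - 1) + 1 =
      padicValNat 2 (q + 1) + padicValNat 2 (q - 1) + (1 + padicValNat 2 j) := by
    intro j hj
    have h := padicValNat.pow_two_sub_pow (x := q) (y := 1) h1 (by omega) (by omega) (n := 2 * j) (by omega)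
      (by simp)
    rw [one_pow, padicValNat.mul (by norm_num) hj, padicValNat_self] at h
    exact h
  have ha := key i hi
  have hb := key 1 one_ne_zero
  rw [mul_one, padicValNat.one] at hb
  omega

theorem pow_sub_ne (h1 : 1 < q) {i : ℕ} (hi : i ≠ 0) : q ^ i - 1 ≠ 0 := by
  have := Nat.one_lt_pow hi h1
  omega

/-- The product of the `q^(2i) - 1`. -/
theorem padic_prod (hq : Odd q) (h1 : 1 < q) (k : ℕ) :
    (∏ i ∈ Finset.range k, (q ^ (2 * (i + 1)) - 1)) ≠ 0 ∧
      padicValNat 2 (∏ i ∈ Finset.range k, (q ^ (2 * (i + 1)) - 1)) =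
        k * padicValNat 2 (q ^ 2 - 1) + padicValNat 2 k.factorial := by
  haveI : Fact (Nat.Prime 2) := ⟨Nat.prime_two⟩
  induction k with
  | zero => simp
  | succ k ih =>
    have hne : q ^ (2 * (k + 1)) - 1 ≠ 0 := pow_sub_ne h1 (by omega)
    rw [Finset.prod_range_succ]
    refine ⟨mul_ne_zero ih.1 hne, ?_⟩
    rw [padicValNat.mul ih.1 hne, ih.2, padic_sq_pow hq h1 (by omega), Nat.factorial_succ,
      padicValNat.mul (by omega) (Nat.factorial_ne_zero k)]
    ring

theorem padic_order (hq : Odd q) (h1 : 1 < q) (e k X : ℕ) (hX : X ≠ 0) :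
    padicValNat 2 (2 * q ^ e * X * ∏ i ∈ Finset.range k, (q ^ (2 * (i + 1)) - 1)) =
      1 + padicValNat 2 X + (k * padicValNat 2 (q ^ 2 - 1) + padicValNat 2 k.factorial) := by
  haveI : Fact (Nat.Prime 2) := ⟨Nat.prime_two⟩
  have hodd := Nat.odd_iff.mp hq
  have he : q ^ e ≠ 0 := pow_ne_zero _ (by omega)
  have hP := padic_prod hq h1 k
  rw [padicValNat.mul (mul_ne_zero (mul_ne_zero (by norm_num) he) hX) hP.1, hP.2,
    padicValNat.mul (mul_ne_zero (by norm_num) he) hX, padicValNat.mul (by norm_num) he, padicValNat_self,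
    padic_two_odd (fun h => by have := Nat.Prime.dvd_of_dvd_pow Nat.prime_two h; omega), add_zero]

theorem padic_pow_split (hq : Odd q) (h1 : 1 < q) {m : ℕ} (hm : m ≠ 0) :
    padicValNat 2 (q ^ m - 1) + padicValNat 2 (q ^ m + 1) = padicValNat 2 (q ^ 2 - 1) + padicValNat 2 m := by
  haveI : Fact (Nat.Prime 2) := ⟨Nat.prime_two⟩
  have h := Nat.sq_sub_sq (q ^ m) 1
  rw [one_pow, ← pow_mul, mul_comm m 2] at h
  rw [← padic_sq_pow hq h1 hm, h, padicValNat.mul (by omega) (pow_sub_ne h1 hm), add_comm]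

theorem padic_plus (hq : Odd q) (h1 : 1 < q) {m : ℕ} (hm : m ≠ 0) :
    (q ^ m % 4 = 1 → padicValNat 2 (q ^ m + 1) = 1 ∧
      padicValNat 2 (q ^ m - 1) + 1 = padicValNat 2 (q ^ 2 - 1) + padicValNat 2 m) ∧
    (q ^ m % 4 ≠ 1 → padicValNat 2 (q ^ m - 1) = 1 ∧
      padicValNat 2 (q ^ m + 1) + 1 = padicValNat 2 (q ^ 2 - 1) + padicValNat 2 m) := by
  have hs := padic_pow_split hq h1 hm
  have hodd : q ^ m % 2 = 1 := Nat.odd_iff.mp (hq.pow)
  constructor
  · intro h
    have h' : padicValNat 2 (q ^ m + 1) = 1 := padic_two_of_mod_four (by omega)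
    exact ⟨h', by omega⟩
  · intro h
    have h' : padicValNat 2 (q ^ m - 1) = 1 := padic_two_of_mod_four (by omega)
    exact ⟨h', by omega⟩

theorem factorial_split {m : ℕ} (hm : m ≠ 0) :
    padicValNat 2 m + padicValNat 2 (m - 1).factorial = padicValNat 2 m.factorial := by
  haveI : Fact (Nat.Prime 2) := ⟨Nat.prime_two⟩
  obtain ⟨j, rfl⟩ : ∃ j, m = j + 1 := ⟨m - 1, by omega⟩
  rw [Nat.add_sub_cancel, Nat.factorial_succ, padicValNat.mul (by omega) (Nat.factorial_ne_zero j)]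

end Cfsg.Lib.OrthSylowTwo
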