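import Cfsg.Agent.Classical.OrthSylowTwo.Model

/-!
# Squares in a Sylow 2-subgroup of `Ω` of a diagonal form
-/

set_option autoImplicit false
set_option linter.style.haveILetI false
set_option linter.unusedSectionVars false

namespace Cfsg.Lib.OrthSylowTwo

open Cfsg.Lib.Classical Cfsg.Lib.Classical.Refl
open Matrix Subgroup

universe u

variable {F : Type u} [Field F] [Fintype F] [DecidableEq F] {k r : ℕ}

theorem neg_one_ne_one (h2 : (2 : F) ≠ 0) : (-1 : Fˣ) ≠ 1 := fun h => h2 (by
  have := congrArg Units.val h; simp at this; linear_combination -this)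

/-- A Sylow 2-subgroup of the plane contains reflections, and is generated by them. -/
theorem plane_generated (h2 : (2 : F) ≠ 0) (D : Sylow 2 (Cfsg.isometryGroup F (⇑(plane F)))) :
    ∀ g ∈ D.toSubgroup, g ∈ Subgroup.closure
      {x | x ∈ D.toSubgroup ∧ ∃ v hv, x = refl (plane F) v hv} := by
  haveI : Fact (Nat.Prime 2) := ⟨Nat.prime_two⟩
  set χ := detHom (plane F)
  have hQ : (QuadraticMap.polarBilin (plane F)).Nondegenerate :=
    wss_nondegenerate _ (fun _ => one_ne_zero) h2
  have hval : ∀ g, χ g = 1 ∨ χ g = -1 := fun g => by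
    rcases det_sq (plane F) hQ g with h | h
    · exact Or.inl (Units.ext h)
    · exact Or.inr (Units.ext h)
  have hr0 : ∃ r ∈ D.toSubgroup, χ r = -1 := by
    by_contra hno
    push Not at hno
    have hle : D.toSubgroup ≤ χ.ker := fun g hg => (hval g).resolve_right (hno g hg)
    apply D.not_dvd_index
    refine dvd_trans ?_ (Subgroup.index_dvd_of_le hle)
    have hu : plane F ![1, 0] ≠ 0 := by simp [plane_apply]
    have hrange : χ.range = Subgroup.zpowers (-1 : Fˣ) := by
      refine le_antisymm ?_ ?_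
      · rintro _ ⟨g, rfl⟩
        rcases hval g with h | h <;> rw [h]
        · exact one_mem _
        · exact mem_zpowers _
      · rw [zpowers_le]
        exact ⟨_, detHom_refl (plane F) _ hu⟩
    rw [Subgroup.index_ker, hrange, Nat.card_zpowers,
      orderOf_eq_prime (by rw [pow_two]; simp) (neg_one_ne_one h2)]
  obtain ⟨r0, hr0, hr0χ⟩ := hr0
  obtain ⟨v0, hv0, hv0e⟩ := refl_of_det h2 r0 hr0χ
  intro g hg
  have hneg : ∀ x ∈ D.toSubgroup, χ x = -1 → x ∈ Subgroup.closure
      {x | x ∈ D.toSubgroup ∧ ∃ v hv, x = refl (plane F) v hv} := fun x hx h =>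
    Subgroup.subset_closure ⟨hx, refl_of_det h2 x h⟩
  rcases hval g with h | h
  · rw [show g = g * r0 * r0⁻¹ by group]
    refine mul_mem (hneg _ (mul_mem hg hr0) ?_) (inv_mem (hneg _ hr0 hr0χ))
    rw [map_mul, h, hr0χ, one_mul]
  · exact hneg g hg h

theorem blk_map (w : Fin r → F) (m : (Fin k → Cfsg.isometryGroup F (⇑(plane F))) × (Fin r → ℤˣ))
    (σ : Equiv.Perm (Fin k)) (i : Fin k) (u : Fin 2 → F) :
    mat (diagForm w) (baseHom w m * topHom w σ) *ᵥ emb i u =
      emb (σ i) (mat (plane F) (m.1 (σ i)) *ᵥ u) := by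
  refine funext fun a => ?_
  rw [mat_mul]
  rcases a with p | a
  · rw [baseHom_inl, emb_inl]
    simp only [topHom_inl, emb_inl]
    by_cases hp : p.1 = σ i
    · rw [if_pos hp, hp]
      simp
    · rw [if_neg hp]
      have : σ.symm p.1 ≠ i := fun e => hp (by rw [← e, Equiv.apply_symm_apply])
      simp [this, show (fun _ : Fin 2 => (0 : F)) = 0 from rfl]
  · rw [baseHom_inr, topHom_inr, emb_inr, emb_inr, mul_zero]

theorem rest_map (w : Fin r → F) (m : (Fin k → Cfsg.isometryGroup F (⇑(plane F))) × (Fin r → ℤˣ))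
    (σ : Equiv.Perm (Fin k)) (i : Fin r) (c : F) :
    mat (diagForm w) (baseHom w m * topHom w σ) *ᵥ (Pi.single (Sum.inr i) c : Idx k r → F) =
      Pi.single (Sum.inr i) (((m.2 i : ℤ) : F) * c) := by
  refine funext fun a => ?_
  rw [mat_mul]
  rcases a with p | a
  · rw [baseHom_inl, Pi.single_eq_of_ne (by simp)]
    simp only [topHom_inl, ne_eq, reduceCtorEq, not_false_eq_true, Pi.single_eq_of_ne]
    simp [show (fun _ : Fin 2 => (0 : F)) = 0 from rfl]
  · rw [baseHom_inr, topHom_inr]
    by_cases ha : a = i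
    · subst ha; simp
    · simp [ha]

theorem swap_mem_ker (h2 : (2 : F) ≠ 0) (w : Fin r → F) (hw : ∀ i, w i ≠ 0) (σ : Equiv.Perm (Fin k)) :
    detSpin (diagForm (k := k) w) (topHom w σ) = 1 := by
  induction σ using Equiv.Perm.swap_induction_on with
  | one => rw [map_one, map_one]
  | swap_mul τ i j hij ih =>
    rw [map_mul, map_mul, ih, mul_one]
    let e : Fin 2 → (Fin 2 → F) := fun l => Pi.single l 1
    let v : Fin 2 → (Idx k r → F) := fun l => emb i (e l) - emb j (e l)
    have hQ : (QuadraticMap.polarBilin (diagForm (k := k) w)).Nondegenerate :=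
      wss_nondegenerate _ (weights_ne hw) h2
    have hpol : ∀ l (x : Idx k r → F), QuadraticMap.polar (⇑(diagForm w)) (v l) x =
        2 * (x (.inl (i, l)) - x (.inl (j, l))) := by
      intro l x
      simp only [v, QuadraticMap.polar_sub_left, polar_emb, plane, polar_wss, e]
      fin_cases l <;> simp [Fin.sum_univ_two] <;> ring
    have hv : ∀ l, diagForm w (v l) = 2 := by
      intro l
      have h := hpol l (v l)
      rw [QuadraticMap.polar_self, nsmul_eq_mul, Nat.cast_ofNat] at h
      have := mul_left_cancel₀ h2 h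
      rw [this]
      simp [v, e, emb_inl, hij, Ne.symm hij]
      norm_num
    have hv0 : ∀ l, diagForm w (v l) ≠ 0 := fun l => by rw [hv l]; exact h2
    have hswap : topHom w (Equiv.swap i j) = refl (diagForm w) (v 0) (hv0 0) * refl (diagForm w) (v 1) (hv0 1) := by
      refine ext_mulVec _ fun x => funext fun a => ?_
      rw [mat_mul, mat_refl, mat_refl, hv, hv, hpol, hpol]
      have hc : ∀ t : F, (2 : F)⁻¹ * (2 * t) = t := fun t => by rw [← mul_assoc, inv_mul_cancel₀ h2, one_mul]
      simp only [hc]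
      rcases a with ⟨p, l⟩ | a
      · rw [topHom_inl, Equiv.symm_swap]
        simp only [v, e, Pi.sub_apply, Pi.smul_apply, emb_inl, smul_eq_mul]
        by_cases hpi : p = i
        · subst hpi
          fin_cases l <;> simp [hij, Ne.symm hij, Equiv.swap_apply_left]
        · by_cases hpj : p = j
          · subst hpj
            fin_cases l <;> simp [hij, Ne.symm hij, Equiv.swap_apply_right]
          · fin_cases l <;> simp [hpi, hpj, Equiv.swap_apply_of_ne_of_ne hpi hpj]
      · rw [topHom_inr]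
        simp [v, emb_inr]
    rw [hswap, map_mul, refl_same_class (diagForm w) hQ (detSpin (diagForm (k := k) w)) (hv0 0) (hv0 1)
      (by rw [hv, hv]; exact ⟨2, rfl⟩), ← map_mul, refl_mul_self, map_one]

variable (w : Fin r → F)

/-- The base group of the candidate Sylow subgroup. -/
abbrev baseSyl (D : Subgroup (Cfsg.isometryGroup F (⇑(plane F)))) :
    Subgroup ((Fin k → Cfsg.isometryGroup F (⇑(plane F))) × (Fin r → ℤˣ)) :=
  (Subgroup.pi Set.univ fun _ => D).prod ⊤

/-- The candidate Sylow subgroup. -/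
noncomputable abbrev bigSyl (D : Subgroup (Cfsg.isometryGroup F (⇑(plane F)))) (W : Subgroup (Equiv.Perm (Fin k))) :
    Subgroup (Cfsg.isometryGroup F (⇑(diagForm (k := k) w))) :=
  (baseSyl (r := r) D).map (baseHom w) ⊔ W.map (topHom w)

/-- The reflections of block type in a subgroup. -/
abbrev blkRefl (P : Subgroup (Cfsg.isometryGroup F (⇑(diagForm (k := k) w)))) : Set (Cfsg.isometryGroup F (⇑(diagForm (k := k) w))) :=
  {g | g ∈ P ∧ ∃ v hv, Blk v ∧ g = refl (diagForm (k := k) w) v hv}

theorem mem_baseSyl {D : Subgroup (Cfsg.isometryGroup F (⇑(plane F)))}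
    (m : (Fin k → Cfsg.isometryGroup F (⇑(plane F))) × (Fin r → ℤˣ)) :
    m ∈ baseSyl (r := r) D ↔ ∀ i, m.1 i ∈ D := by
  simp [baseSyl, Subgroup.mem_prod, Subgroup.mem_pi]

/-- Two reflections of block type in the candidate commute or commute with a third one. -/
theorem blkRefl_comm (h2 : (2 : F) ≠ 0) (hk : 2 ≤ k) (hw : ∀ i, w i ≠ 0)
    (D : Subgroup (Cfsg.isometryGroup F (⇑(plane F)))) (W : Subgroup (Equiv.Perm (Fin k)))
    (hdec : ∀ g ∈ bigSyl w D W, ∃ m ∈ baseSyl (r := r) D, ∃ σ ∈ W, g = baseHom w m * topHom w σ) :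
    ∀ a ∈ blkRefl w (bigSyl w D W), ∀ b ∈ blkRefl w (bigSyl w D W),
      detSpin (diagForm (k := k) w) a = detSpin (diagForm (k := k) w) b → Commute a b ∨
        ∃ t ∈ blkRefl w (bigSyl w D W), detSpin (diagForm (k := k) w) t = detSpin (diagForm (k := k) w) a ∧ Commute a t ∧ Commute b t := by
  classical
  have hQ : (QuadraticMap.polarBilin (diagForm (k := k) w)).Nondegenerate := wss_nondegenerate _ (weights_ne hw) h2
  rintro _ ⟨hrP, v, hv, hvb, rfl⟩ _ ⟨hsP, v', hv', hvb', rfl⟩ -
  rcases hvb with ⟨i, u, rfl⟩ | ⟨i, c, rfl⟩ <;> rcases hvb' with ⟨i', u', rfl⟩ | ⟨i', c', rfl⟩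
  · by_cases hii : i = i'
    · subst hii
      haveI : Nontrivial (Fin k) := Fin.nontrivial_iff_two_le.mpr hk
      obtain ⟨j, hj⟩ := exists_ne i
      have hu : plane F u ≠ 0 := by rwa [diag_emb] at hv
      obtain ⟨m, hm, σ, -, he⟩ := hdec _ hrP
      have hjk : ∀ l, σ l = l := by
        intro l
        by_contra hne
        have h := blk_map w m σ l (fun _ => (1 : F))
        rw [← he, mat_refl] at h
        by_cases hli : l = i
        · subst hli
          have h0 := congrFun h (.inl (σ l, (0 : Fin 2)))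
          have h1 := congrFun h (.inl (σ l, (1 : Fin 2)))
          simp [emb_inl, hne] at h0 h1
          have : mat (plane F) (m.1 (σ l)) *ᵥ (fun _ => (1 : F)) = 0 := by
            funext z; fin_cases z <;> simp [← h0, ← h1]
          have h4 := (mem_iff (plane F)).mp (m.1 (σ l)).2 (fun _ => (1 : F))
          rw [show ((m.1 (σ l) : Matrix.GeneralLinearGroup (Fin 2) F) : Matrix (Fin 2) (Fin 2) F) *ᵥ
            (fun _ => (1 : F)) = 0 from this, QuadraticMap.map_zero, plane_apply] at h4
          exact h2 (by linear_combination -h4)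
        · rw [polar_emb] at h
          have h0 : (fun t => (emb l (fun _ => (1 : F)) : Idx k r → F) (.inl (i, t))) = 0 := by
            funext t; simp [emb_inl, Ne.symm hli]
          rw [h0] at h
          simp only [QuadraticMap.polar_zero_right, mul_zero, zero_smul, sub_zero] at h
          have h1 := congrFun h (.inl (l, (0 : Fin 2)))
          simp [emb_inl, Ne.symm hne] at h1
      have hσ : σ = 1 := Equiv.ext hjk
      rw [hσ, map_one, mul_one] at he
      have hmi : m = (Pi.mulSingle i (refl (plane F) u hu), 1) :=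
        baseHom_injective h2 w (he.symm.trans (single_refl w i u hu).symm)
      have huD : refl (plane F) u hu ∈ D := by
        have := (mem_baseSyl m).mp hm i
        rw [hmi] at this; simpa using this
      have htv : diagForm w (emb j u : Idx k r → F) ≠ 0 := by rwa [diag_emb]
      have hpol : ∀ u'', QuadraticMap.polar (⇑(diagForm w)) (emb i u'' : Idx k r → F) (emb j u) = 0 := by
        intro u''
        rw [polar_emb, show (fun t => (emb j u : Idx k r → F) (.inl (i, t))) = 0 from
          funext fun t => by simp [emb_inl, Ne.symm hj], QuadraticMap.polar_zero_right]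
      refine Or.inr ⟨refl (diagForm (k := k) w) (emb j u) htv, ⟨?_, _, _, Or.inl ⟨j, u, rfl⟩, rfl⟩, ?_, ?_, ?_⟩
      · refine mem_sup_left ⟨(Pi.mulSingle j (refl (plane F) u hu), 1), (mem_baseSyl _).mpr fun l => ?_,
          single_refl w j u hu⟩
        by_cases hl : l = j
        · subst hl; simpa using huD
        · simp [hl]
      · refine refl_same_class (diagForm (k := k) w) hQ (detSpin (diagForm (k := k) w)) htv hv ?_
        rw [diag_emb, diag_emb]
        exact ⟨plane F u, rfl⟩
      · exact commute_refl_of_polar (diagForm (k := k) w) hv htv (hpol u)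
      · exact commute_refl_of_polar (diagForm (k := k) w) hv' htv (hpol u')
    · refine Or.inl (commute_refl_of_polar (diagForm (k := k) w) hv hv' ?_)
      rw [polar_emb, show (fun t => (emb i' u' : Idx k r → F) (.inl (i, t))) = 0 from
        funext fun t => by simp [emb_inl, hii], QuadraticMap.polar_zero_right]
  · refine Or.inl (commute_refl_of_polar (diagForm (k := k) w) hv hv' ?_)
    rw [polar_emb, show (fun t => (Pi.single (Sum.inr i') c' : Idx k r → F) (.inl (i, t))) = 0 from
      funext fun t => by simp, QuadraticMap.polar_zero_right]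
  · refine Or.inl (commute_refl_of_polar (diagForm (k := k) w) hv' hv ?_).symm
    rw [polar_emb, show (fun t => (Pi.single (Sum.inr i) c : Idx k r → F) (.inl (i', t))) = 0 from
      funext fun t => by simp, QuadraticMap.polar_zero_right]
  · by_cases hii : i = i'
    · subst hii
      have hc : c ≠ 0 := fun h => hv (by rw [h, Pi.single_zero, QuadraticMap.map_zero])
      have heq : (Pi.single (Sum.inr i) c' : Idx k r → F) = (c' / c) • Pi.single (Sum.inr i) c := by
        rw [← Pi.single_smul, smul_eq_mul, div_mul_cancel₀ _ hc]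
      rw [refl_congr (diagForm (k := k) w) hv hv' heq]
      exact Or.inl (Commute.refl _)
    · refine Or.inl (commute_refl_of_polar (diagForm (k := k) w) hv hv' ?_)
      rw [diagForm, polar_wss]
      refine Finset.sum_eq_zero fun a _ => ?_
      by_cases ha : a = Sum.inr i
      · subst ha
        simp [hii]
      · simp [ha]

/-- The index of `P ⊓ Ω` in the normal subgroup `Ω` divides the index of `P`. -/
theorem relIndex_dvd_index_right {G : Type*} [Group G] [Finite G] (P K : Subgroup G) [K.Normal] :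
    P.relIndex K ∣ P.index := by
  have h := Cfsg.Lib.Coprime.card_sup_mul_card_inf (le_normalizer_of_normal : P ≤ normalizer (K : Set G))
  have e1 : Nat.card P * P.relIndex (K ⊔ P) = Nat.card ↥(K ⊔ P) := by
    rw [← relIndex_bot_left P, ← relIndex_bot_left (K ⊔ P), relIndex_mul_relIndex _ _ _ bot_le le_sup_right]
  have e2 : Nat.card ↥(K ⊓ P) * P.relIndex K = Nat.card K := by
    rw [← inf_relIndex_right P K, inf_comm P K, ← relIndex_bot_left (K ⊓ P), ← relIndex_bot_left K,
      relIndex_mul_relIndex _ _ _ bot_le inf_le_left]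
  have h3 : P.relIndex (K ⊔ P) = P.relIndex K := by
    have hpos : 0 < Nat.card P * Nat.card ↥(K ⊓ P) := Nat.mul_pos Nat.card_pos Nat.card_pos
    refine Nat.eq_of_mul_eq_mul_left hpos ?_
    calc Nat.card P * Nat.card ↥(K ⊓ P) * P.relIndex (K ⊔ P)
        = Nat.card ↥(K ⊔ P) * Nat.card ↥(K ⊓ P) := by rw [← e1]; ring
      _ = Nat.card K * Nat.card P := h
      _ = Nat.card P * Nat.card ↥(K ⊓ P) * P.relIndex K := by rw [← e2]; ring
  exact h3 ▸ relIndex_dvd_index_of_le le_sup_right

/-- Transfer from a Sylow subgroup of the whole group to one of the kernel. -/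
theorem sylow_sq_of_kernel {G : Type*} [Group G] [Finite G] {A : Type*} [Group A] (χ : G →* A) (Ω : Subgroup G)
    (hker : χ.ker = Ω) (P : Sylow 2 G)
    (key : ∀ x ∈ P.toSubgroup ⊓ χ.ker, x ^ 2 ∈ ⁅P.toSubgroup ⊓ χ.ker, P.toSubgroup ⊓ χ.ker⁆)
    (S : Sylow 2 Ω) : ∀ x : S.toSubgroup, x ^ 2 ∈ commutator S.toSubgroup := by
  haveI : Fact (Nat.Prime 2) := ⟨Nat.prime_two⟩
  haveI : Ω.Normal := hker ▸ MonoidHom.normal_ker χ
  intro x
  let K : Subgroup Ω := P.toSubgroup.subgroupOf Ω
  have hK : IsPGroup 2 K := P.isPGroup'.comap_of_injective _ (Subgroup.subtype_injective _)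
  have hKidx : ¬ 2 ∣ K.index := fun h => P.not_dvd_index
    (h.trans (relIndex_dvd_index_right P.toSubgroup Ω))
  let KS : Sylow 2 Ω := hK.toSylow hKidx
  let e : KS.toSubgroup ≃* S.toSubgroup := Sylow.equiv KS S
  suffices hKsq : ∀ y : K, y ^ 2 ∈ commutator K by
    have h := hKsq (e.symm x)
    have h' : e ((e.symm x) ^ 2) ∈ (commutator KS.toSubgroup).map e.toMonoidHom := ⟨_, h, rfl⟩
    rw [map_pow, MulEquiv.apply_symm_apply] at h'
    rw [show commutator S.toSubgroup = (commutator KS.toSubgroup).map e.toMonoidHom by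
      rw [map_commutator_eq, MonoidHom.range_eq_top.mpr e.surjective]; rfl]
    exact h'
  intro y
  let f : K →* G := Ω.subtype.comp K.subtype
  have hfinj : Function.Injective f :=
    (Subgroup.subtype_injective _).comp (Subgroup.subtype_injective _)
  have hfr : f.range = P.toSubgroup ⊓ χ.ker := by
    rw [hker]
    ext g
    constructor
    · rintro ⟨z, rfl⟩; exact ⟨z.2, z.1.2⟩
    · rintro ⟨hgP, hgΩ⟩; exact ⟨⟨⟨g, hgΩ⟩, hgP⟩, rfl⟩
  have hy : f y ∈ P.toSubgroup ⊓ χ.ker := hfr ▸ ⟨y, rfl⟩
  have := key (f y) hy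
  rw [← hfr, ← map_commutator_eq, ← map_pow] at this
  obtain ⟨z, hz, hzy⟩ := this
  rwa [← hfinj hzy]

/-- The main statement for diagonal forms. -/
theorem sq_mem_commutator_diag (h2 : (2 : F) ≠ 0) (hk : 2 ≤ k) (hw : ∀ i, w i ≠ 0)
    (hcard : (Nat.card (Cfsg.isometryGroup F (⇑(diagForm (k := k) w)))).factorization 2 =
      k * (Nat.card (Cfsg.isometryGroup F (⇑(plane F)))).factorization 2 + r + padicValNat 2 k.factorial)
    (S : Sylow 2 (Cfsg.Omega F (⇑(diagForm (k := k) w)))) :
    ∀ x : S.toSubgroup, x ^ 2 ∈ commutator S.toSubgroup := by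
  classical
  haveI : Fact (Nat.Prime 2) := ⟨Nat.prime_two⟩
  have hQ : (QuadraticMap.polarBilin (diagForm (k := k) w)).Nondegenerate := wss_nondegenerate _ (weights_ne hw) h2
  have hι : 2 ≤ Fintype.card (Idx k r) := by simp; omega
  obtain ⟨D⟩ := (inferInstance : Nonempty (Sylow 2 (Cfsg.isometryGroup F (⇑(plane F)))))
  obtain ⟨W, hWc, hWg⟩ := exists_sylow_invol k
  let MD : Subgroup ((Fin k → Cfsg.isometryGroup F (⇑(plane F))) × (Fin r → ℤˣ)) :=
    baseSyl (r := r) D.toSubgroup
  have hMD : ∀ m, m ∈ MD ↔ ∀ i, m.1 i ∈ D.toSubgroup := fun m => by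
    simp [MD, Subgroup.mem_prod, Subgroup.mem_pi]
  let B := MD.map (baseHom w)
  let T := W.map (topHom w)
  let P := B ⊔ T
  have hTB : T ≤ normalizer (B : Set (Cfsg.isometryGroup F (⇑(diagForm (k := k) w)))) := by
    have hconj : ∀ (σ : Equiv.Perm (Fin k)) (m : _), m ∈ MD →
        topHom w σ * baseHom w m * (topHom w σ)⁻¹ ∈ B := by
      rintro σ ⟨d, ε⟩ hm
      rw [top_mul_base, mul_inv_cancel_right]
      exact ⟨_, (hMD _).mpr fun i => (hMD _).mp hm (σ.symm i), rfl⟩
    rintro _ ⟨σ, -, rfl⟩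
    rw [Subgroup.mem_normalizer_iff]
    intro g
    constructor
    · rintro ⟨m, hm, rfl⟩; exact hconj σ m hm
    · rintro ⟨m, hm, hme⟩
      have := hconj σ⁻¹ m hm
      rw [hme, map_inv] at this
      simpa [mul_assoc] using this
  have hdis : B ⊓ T = ⊥ := by
    rw [eq_bot_iff]
    rintro _ ⟨⟨m, -, rfl⟩, σ, -, hσ⟩
    have h1 := base_eq_top w m σ hσ.symm
    rw [Subgroup.mem_bot, ← hσ, h1, map_one]
  have hPdec : ∀ g ∈ P, ∃ m ∈ MD, ∃ σ ∈ W, g = baseHom w m * topHom w σ := by
    intro g hg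
    rw [← SetLike.mem_coe, Subgroup.coe_mul_of_right_le_normalizer_left _ _ hTB, Set.mem_mul] at hg
    obtain ⟨_, ⟨m, hm, rfl⟩, _, ⟨σ, hσ, rfl⟩, rfl⟩ := hg
    exact ⟨m, hm, σ, hσ, rfl⟩
  -- the order of `P`
  have hPcard : Nat.card P = 2 ^ ((Nat.card (Cfsg.isometryGroup F (⇑(diagForm (k := k) w)))).factorization 2) := by
    have h := Cfsg.Lib.Coprime.card_sup_mul_card_inf hTB
    rw [hdis, Subgroup.card_bot, mul_one] at h
    have hBc : Nat.card B = Nat.card D.toSubgroup ^ k * 2 ^ r := by
      rw [Subgroup.card_map_of_injective (baseHom_injective h2 w),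
        Nat.card_congr (Equiv.ofBijective
          (fun m : MD => ((fun i => ⟨(m.1).1 i, (hMD _).mp m.2 i⟩ : Fin k → D.toSubgroup), (m.1).2))
          ⟨fun a b hab => by
            simp only [Prod.mk.injEq] at hab
            exact Subtype.ext (Prod.ext (funext fun i => congrArg Subtype.val (congrFun hab.1 i)) hab.2),
          fun x => ⟨⟨(fun i => (x.1 i : _), x.2), (hMD _).mpr fun i => (x.1 i).2⟩, rfl⟩⟩)]
      simp [Nat.card_prod, Nat.card_fun, Nat.card_eq_fintype_card (α := ℤˣ)]
    have hTinj : Function.Injective (topHom (k := k) w) := by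
      rw [← MonoidHom.ker_eq_bot_iff, eq_bot_iff]
      intro σ hσ
      exact base_eq_top w 1 σ (by rw [map_one]; exact (MonoidHom.mem_ker.mp hσ).symm)
    rw [show Nat.card P = Nat.card B * Nat.card T from h, hBc, Subgroup.card_map_of_injective hTinj, hWc,
      Sylow.card_eq_multiplicity, hcard, ← pow_mul, ← pow_add, ← pow_add]
    ring_nf
  let PS : Sylow 2 (Cfsg.isometryGroup F (⇑(diagForm (k := k) w))) := Sylow.ofCard P hPcard
  -- generators
  let X : Set (Cfsg.isometryGroup F (⇑(diagForm (k := k) w))) := {g | g ∈ P ∧ ∃ v hv, Blk v ∧ g = refl (diagForm (k := k) w) v hv}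
  let SS : Set (Cfsg.isometryGroup F (⇑(diagForm (k := k) w))) := (topHom w) '' {σ | σ ∈ W ∧ σ * σ = 1}
  have hgen : Subgroup.closure (X ∪ SS) = P := by
    refine le_antisymm ((Subgroup.closure_le _).mpr ?_) (sup_le ?_ ?_)
    · rintro g (hg | ⟨σ, hσ, rfl⟩)
      · exact hg.1
      · exact mem_sup_right ⟨σ, hσ.1, rfl⟩
    · rw [Subgroup.map_le_iff_le_comap]
      have h1 : (Subgroup.pi Set.univ fun _ : Fin k => D.toSubgroup) ≤
          ((Subgroup.closure (X ∪ SS)).comap (baseHom w)).comap (MonoidHom.inl _ _) := by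
        rw [Subgroup.pi_le_iff]
        intro i
        rintro _ ⟨g, hg, rfl⟩
        show baseHom w (Pi.mulSingle i g, 1) ∈ Subgroup.closure (X ∪ SS)
        have hle : Subgroup.closure {x | x ∈ D.toSubgroup ∧ ∃ v hv, x = refl (plane F) v hv} ≤
            (Subgroup.closure (X ∪ SS)).comap ((baseHom w).comp ((MonoidHom.inl _ _).comp
              (MonoidHom.mulSingle (fun _ : Fin k => Cfsg.isometryGroup F (⇑(plane F))) i))) := by
          rw [Subgroup.closure_le]
          rintro _ ⟨hx, v, hv, rfl⟩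
          refine Subgroup.subset_closure (Or.inl ⟨mem_sup_left ⟨_, (hMD _).mpr fun j => ?_, rfl⟩, ?_⟩)
          · show (Pi.mulSingle i (refl (plane F) v hv) : Fin k → _) j ∈ D.toSubgroup
            by_cases hj : j = i
            · subst hj; rwa [Pi.mulSingle_eq_same]
            · rw [Pi.mulSingle_eq_of_ne hj]; exact one_mem _
          · exact ⟨_, _, Or.inl ⟨i, v, rfl⟩, single_refl w i v hv⟩
        exact hle (plane_generated h2 D g hg)
      have h3 : (Subgroup.pi Set.univ fun _ : Fin r => (⊤ : Subgroup ℤˣ)) ≤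
          ((Subgroup.closure (X ∪ SS)).comap (baseHom w)).comap (MonoidHom.inr _ _) := by
        rw [Subgroup.pi_le_iff]
        intro i
        rintro _ ⟨s, -, rfl⟩
        show baseHom w (1, Pi.mulSingle i s) ∈ Subgroup.closure (X ∪ SS)
        rcases Int.units_eq_one_or s with rfl | rfl
        · rw [Pi.mulSingle_one, show ((1 : Fin k → Cfsg.isometryGroup F (⇑(plane F))), (1 : Fin r → ℤˣ)) = 1 from rfl,
            map_one]
          exact one_mem _
        · obtain ⟨hv, he⟩ := rest_refl (k := k) w hw i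
          refine Subgroup.subset_closure (Or.inl ⟨mem_sup_left ⟨_, (hMD _).mpr fun j => one_mem _, rfl⟩, ?_⟩)
          exact ⟨_, hv, Or.inr ⟨i, 1, rfl⟩, he⟩
      rintro ⟨d, ε⟩ hm
      rw [show (d, ε) = (d, 1) * (1, ε) by simp]
      exact mul_mem (h1 (fun i _ => (hMD _).mp hm i)) (h3 (fun i _ => Subgroup.mem_top _))
    · refine (closure_invol_map (topHom w) hWg).trans ((Subgroup.closure_le _).mpr ?_)
      rintro _ ⟨⟨σ, hσ, rfl⟩, h⟩
      refine Subgroup.subset_closure (Or.inr ⟨σ, ⟨hσ, ?_⟩, rfl⟩)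
      exact base_eq_top w 1 (σ * σ) (by rw [map_one, map_mul, h])
  let χ := detSpin (diagForm (k := k) w)
  obtain ⟨α, β, hα, hβ, hns⟩ := exists_two_classes (diagForm (k := k) w) h2 hQ hι
  have hspin : spin (diagForm (k := k) w) (refl (diagForm (k := k) w) α hα) ≠ spin (diagForm (k := k) w) (refl (diagForm (k := k) w) β hβ) := fun h =>
    hns ((spin_eq_iff (diagForm (k := k) w) h2 hQ hι hα hβ).mp h)
  have hker : χ.ker = Cfsg.Omega F (⇑(diagForm (k := k) w)) := by
    ext g
    rw [MonoidHom.mem_ker, mem_omega_iff (diagForm (k := k) w) h2 hQ hι]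
    exact ⟨fun h => ⟨congrArg Prod.fst h, congrArg Prod.snd h⟩, fun h => Prod.ext h.1 h.2⟩
  have hXχ : ∀ x ∈ X, χ x = (-1, (1 : ℤˣ)) ∨ χ x = (-1, (-1 : ℤˣ)) := by
    rintro _ ⟨-, v, hv, -, rfl⟩
    rcases Int.units_eq_one_or (spin (diagForm (k := k) w) (refl (diagForm (k := k) w) v hv)) with h | h
    · exact Or.inl (Prod.ext (detHom_refl (diagForm (k := k) w) v hv) h)
    · exact Or.inr (Prod.ext (detHom_refl (diagForm (k := k) w) v hv) h)
  have key : ∀ x ∈ P ⊓ χ.ker, x ^ 2 ∈ ⁅P ⊓ χ.ker, P ⊓ χ.ker⁆ := sq_mem_commutator χ ((-1 : Fˣ), (1 : ℤˣ)) ((-1 : Fˣ), (-1 : ℤˣ))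
    (fun h => neg_one_ne_one h2 (congrArg Prod.fst h)) (fun h => neg_one_ne_one h2 (congrArg Prod.fst h))
    (fun h => by
      have := congrArg Prod.snd h
      simp at this)
    (by simp) (by simp) P X SS hgen
    (by rintro _ ⟨-, v, hv, -, rfl⟩; exact refl_mul_self (diagForm (k := k) w) v hv)
    (by
      rintro g hg _ ⟨hxP, v, hv, hblk, rfl⟩
      refine ⟨P.mul_mem (P.mul_mem hg hxP) (P.inv_mem hg), _, _, ?_, refl_conj (diagForm (k := k) w) g v hv⟩
      obtain ⟨m, -, σ, -, rfl⟩ := hPdec g hg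
      rcases hblk with ⟨i, u, rfl⟩ | ⟨i, c, rfl⟩
      · exact Or.inl ⟨_, _, blk_map w m σ i u⟩
      · exact Or.inr ⟨_, _, rest_map w m σ i c⟩)
    hXχ
    (by rintro _ ⟨σ, hσ, rfl⟩; rw [← map_mul, hσ.2, map_one])
    (by rintro _ ⟨σ, -, rfl⟩; exact swap_mem_ker h2 w hw σ)
    (blkRefl_comm w h2 hk hw D.toSubgroup W hPdec)
  exact sylow_sq_of_kernel χ _ hker PS key S

end Cfsg.Lib.OrthSylowTwo
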