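import Mathlib
import Cfsg.Agent.Coprime.Sylow

/-!
# A Sylow 2-subgroup of a symmetric group generated by involutions
-/

set_option autoImplicit false

namespace Cfsg.Lib.OrthSylowTwo

open Subgroup

theorem closure_invol_map {G H : Type*} [Group G] [Group H] (f : G →* H) {W : Subgroup G}
    (hW : Subgroup.closure {σ | σ ∈ W ∧ σ * σ = 1} = W) :
    W.map f ≤ Subgroup.closure {τ | τ ∈ W.map f ∧ τ * τ = 1} := by
  have h := congrArg (Subgroup.map f) hW
  rw [MonoidHom.map_closure] at h
  conv_lhs => rw [← h]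
  refine Subgroup.closure_mono ?_
  rintro _ ⟨σ, ⟨hσ, hσ2⟩, rfl⟩
  exact ⟨⟨σ, hσ, rfl⟩, by rw [← map_mul, hσ2, map_one]⟩

/-- Blockwise permutations of `Fin 2 × Fin j`. -/
def blockPerm (j : ℕ) : (Fin j → Equiv.Perm (Fin 2)) →* Equiv.Perm (Fin 2 × Fin j) where
  toFun f := Equiv.prodCongrLeft f
  map_one' := Equiv.ext fun x => rfl
  map_mul' f g := Equiv.ext fun x => rfl

/-- Permutations of the blocks. -/
def topPerm (j : ℕ) : Equiv.Perm (Fin j) →* Equiv.Perm (Fin 2 × Fin j) where
  toFun τ := Equiv.prodCongr (Equiv.refl _) τ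
  map_one' := Equiv.ext fun x => rfl
  map_mul' f g := Equiv.ext fun x => rfl

theorem exists_sylow_invol : ∀ n : ℕ, ∃ W : Subgroup (Equiv.Perm (Fin n)),
    Nat.card W = 2 ^ padicValNat 2 n.factorial ∧
      Subgroup.closure {σ | σ ∈ W ∧ σ * σ = 1} = W := by
  intro n
  induction n using Nat.strong_induction_on with
  | _ n ih =>
    have hsub : ∀ W : Subgroup (Equiv.Perm (Fin n)),
        Subgroup.closure {σ | σ ∈ W ∧ σ * σ = 1} ≤ W := fun W =>
      (Subgroup.closure_le _).mpr fun σ hσ => hσ.1
    rcases Nat.even_or_odd' n with ⟨j, rfl | rfl⟩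
    · rcases Nat.eq_zero_or_pos j with rfl | hj
      · refine ⟨⊥, by simp, le_antisymm (hsub _) bot_le⟩
      obtain ⟨Wj, hWc, hWg⟩ := ih j (by omega)
      let B := (blockPerm j).range
      let T := Wj.map (topPerm j)
      have hBinj : Function.Injective (blockPerm j) := fun f g h => funext fun y => Equiv.ext fun x =>
        congrArg Prod.fst (DFunLike.congr_fun h (x, y))
      have hTinj : Function.Injective (topPerm j) := fun f g h => Equiv.ext fun y =>
        congrArg Prod.snd (DFunLike.congr_fun h ((0 : Fin 2), y))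
      have hTB : T ≤ normalizer (B : Set (Equiv.Perm (Fin 2 × Fin j))) := by
        rintro _ ⟨τ, -, rfl⟩
        rw [Subgroup.mem_normalizer_iff]
        have key : ∀ (τ : Equiv.Perm (Fin j)) (f : Fin j → Equiv.Perm (Fin 2)),
            topPerm j τ * blockPerm j f * (topPerm j τ)⁻¹ = blockPerm j (f ∘ τ.symm) := fun τ f =>
          Equiv.ext fun x => by
            obtain ⟨x1, x2⟩ := x
            simp [topPerm, blockPerm, Equiv.Perm.mul_apply, Equiv.prodCongrLeft]
        intro h
        constructor
        · rintro ⟨f, rfl⟩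
          exact ⟨_, (key τ f).symm⟩
        · rintro ⟨f, hf⟩
          refine ⟨_, ((key τ⁻¹ f).symm.trans ?_)⟩
          rw [hf, map_inv]; group
      have hdis : B ⊓ T = ⊥ := by
        rw [eq_bot_iff]
        rintro _ ⟨⟨f, rfl⟩, ⟨τ, -, hτ⟩⟩
        have : τ = 1 := Equiv.ext fun y => by
          exact congrArg Prod.snd (DFunLike.congr_fun hτ ((0 : Fin 2), y))
        rw [Subgroup.mem_bot, ← hτ, this, map_one]
      have hcard := Cfsg.Lib.Coprime.card_sup_mul_card_inf hTB
      rw [hdis, Subgroup.card_bot, mul_one] at hcard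
      let e : Equiv.Perm (Fin 2 × Fin j) ≃* Equiv.Perm (Fin (2 * j)) :=
        finProdFinEquiv.permCongrHom
      refine ⟨(B ⊔ T).map e.toMonoidHom, ?_, le_antisymm (hsub _) ?_⟩
      · rw [Subgroup.card_map_of_injective e.injective, hcard]
        rw [show Nat.card T = Nat.card Wj from Subgroup.card_map_of_injective hTinj, hWc,
          show Nat.card B = Nat.card (Fin j → Equiv.Perm (Fin 2)) from
            (Nat.card_congr (MonoidHom.ofInjective hBinj).toEquiv).symm,
          Nat.card_fun, Nat.card_perm, Nat.card_fin, Nat.card_fin,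
          padicValNat_factorial_mul]
        rw [show Nat.factorial 2 = 2 from rfl, ← pow_add, add_comm]
      · refine closure_invol_map e.toMonoidHom (le_antisymm ((Subgroup.closure_le _).mpr fun σ hσ => hσ.1) ?_)
        refine sup_le ?_ ((closure_invol_map (topPerm j) hWg).trans ?_)
        · rintro _ ⟨f, rfl⟩
          refine Subgroup.subset_closure ⟨mem_sup_left ⟨f, rfl⟩, ?_⟩
          rw [← map_mul, show f * f = 1 from funext fun y => ?_, map_one]
          revert y; intro y
          exact (by decide : ∀ σ : Equiv.Perm (Fin 2), σ * σ = 1) (f y)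
        · exact Subgroup.closure_mono fun σ hσ => ⟨mem_sup_right hσ.1, hσ.2⟩
    · obtain ⟨W, hWc, hWg⟩ := ih (2 * j) (by omega)
      let f := Equiv.Perm.viaEmbeddingHom (Fin.castSuccEmb (n := 2 * j))
      refine ⟨W.map f, ?_, le_antisymm (hsub _) (closure_invol_map f hWg)⟩
      rw [Subgroup.card_map_of_injective (Equiv.Perm.viaEmbeddingHom_injective _), hWc,
        Nat.factorial_succ, padicValNat.mul (by omega) (Nat.factorial_ne_zero _),
        padicValNat.eq_zero_of_not_dvd (by omega : ¬ 2 ∣ 2 * j + 1), zero_add]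

end Cfsg.Lib.OrthSylowTwo
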