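import Cfsg.Agent.Classical.OrthSylowTwo.Abstract
import Cfsg.Agent.Classical.OrthSylowTwo.Perm
import Cfsg.Agent.Classical.Misc.Spinor
import Cfsg.Agent.Classical.Orth.OmegaGen

/-!
# The monomial Sylow 2-subgroup of a diagonal orthogonal group in odd characteristic
-/

set_option autoImplicit false
set_option linter.style.haveILetI false
set_option linter.unusedSectionVars false

namespace Cfsg.Lib.OrthSylowTwo

open Cfsg.Lib.Classical Cfsg.Lib.Classical.Refl
open Matrix

universe u

variable {F : Type u} [Field F]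

section MkHom

variable {ι : Type} [Fintype ι] [DecidableEq ι] (Q : QuadraticForm F (ι → F))

/-- A linear isometric action as a homomorphism into the isometry group. -/
noncomputable def mkHom {M : Type*} [Group M] (f : M →* Module.End F (ι → F))
    (hf : ∀ m x, Q (f m x) = Q x) : M →* Cfsg.isometryGroup F (⇑Q) :=
  MonoidHom.codRestrict
    ((Units.map ((LinearMap.toMatrixAlgEquiv' (R := F) (n := ι)).toMulEquiv.toMonoidHom)).comp f.toHomUnits)
    (Cfsg.isometryGroup F (⇑Q)) fun m => (mem_iff Q).mpr fun x => by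
      show Q (LinearMap.toMatrix' (f m) *ᵥ x) = Q x
      rw [LinearMap.toMatrix'_mulVec]; exact hf m x

theorem mkHom_mulVec {M : Type*} [Group M] (f : M →* Module.End F (ι → F))
    (hf : ∀ m x, Q (f m x) = Q x) (m : M) (x : ι → F) : mat Q (mkHom Q f hf m) *ᵥ x = f m x :=
  LinearMap.toMatrix'_mulVec (f m) x

theorem mat_refl (v : ι → F) (hv : Q v ≠ 0) (x : ι → F) :
    mat Q (refl Q v hv) *ᵥ x = x - ((Q v)⁻¹ * QuadraticMap.polar (⇑Q) v x) • v :=
  mulVec_eq Q v x

theorem mat_mul (g h : Cfsg.isometryGroup F (⇑Q)) (x : ι → F) :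
    mat Q (g * h) *ᵥ x = mat Q g *ᵥ (mat Q h *ᵥ x) := mulVec_mul Q g h x

theorem refl_eq_of_eq {v w : ι → F} (hv : Q v ≠ 0) (hw : Q w ≠ 0) (h : v = w) :
    refl Q v hv = refl Q w hw := by subst h; rfl

theorem commute_refl_of_polar {v w : ι → F} (hv : Q v ≠ 0) (hw : Q w ≠ 0)
    (h : QuadraticMap.polar (⇑Q) v w = 0) : Commute (refl Q v hv) (refl Q w hw) := by
  have h1 := refl_conj Q (refl Q v hv) w hw
  rw [refl_eq_of_eq Q _ hw (show mat Q (refl Q v hv) *ᵥ w = w by
    rw [mat_refl, h, mul_zero, zero_smul, sub_zero])] at h1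
  exact mul_inv_eq_iff_eq_mul.mp h1

end MkHom

/-- The coordinates: `k` planes and `r` further lines. -/
abbrev Idx (k r : ℕ) : Type := (Fin k × Fin 2) ⊕ Fin r

variable {k r : ℕ}

/-- The diagonal form. -/
def diagForm (w : Fin r → F) : QuadraticForm F (Idx k r → F) :=
  QuadraticMap.weightedSumSquares F (Sum.elim (fun _ : Fin k × Fin 2 => (1 : F)) w)

/-- The plane `x² + y²`. -/
def plane (F : Type u) [Field F] : QuadraticForm F (Fin 2 → F) :=
  QuadraticMap.weightedSumSquares F (fun _ : Fin 2 => (1 : F))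

theorem plane_apply (u : Fin 2 → F) : plane F u = u 0 * u 0 + u 1 * u 1 := by
  simp [plane, QuadraticMap.weightedSumSquares_apply, Fin.sum_univ_two]

theorem diagForm_apply (w : Fin r → F) (x : Idx k r → F) : diagForm w x =
    (∑ i, plane F fun j => x (.inl (i, j))) + ∑ i, w i * (x (.inr i) * x (.inr i)) := by
  simp [diagForm, plane, QuadraticMap.weightedSumSquares_apply, Fintype.sum_sum_type, Fintype.sum_prod_type]

theorem polar_wss {α : Type*} [Fintype α] (w : α → F) (x y : α → F) :
    QuadraticMap.polar (⇑(QuadraticMap.weightedSumSquares F w)) x y = ∑ a, 2 * (w a * (x a * y a)) := by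
  simp only [QuadraticMap.polar, QuadraticMap.weightedSumSquares_apply, smul_eq_mul, Pi.add_apply,
    ← Finset.sum_sub_distrib]
  exact Finset.sum_congr rfl fun a _ => by ring

theorem wss_nondegenerate {α : Type*} [Fintype α] [DecidableEq α] (w : α → F) (hw : ∀ a, w a ≠ 0)
    (h2 : (2 : F) ≠ 0) : (QuadraticMap.polarBilin (QuadraticMap.weightedSumSquares F w)).Nondegenerate := by
  have h1 : ∀ x, (∀ y, QuadraticMap.polar (⇑(QuadraticMap.weightedSumSquares F w)) x y = 0) → x = 0 := by
    intro x hx
    funext a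
    have h := hx (Pi.single a 1)
    rw [polar_wss, Finset.sum_eq_single a (fun b _ hb => by simp [hb]) (by simp)] at h
    simpa [h2, hw a] using h
  exact ⟨fun x hx => h1 x hx, fun x hx => h1 x fun y => by rw [QuadraticMap.polar_comm]; exact hx y⟩

theorem weights_ne {w : Fin r → F} (hw : ∀ i, w i ≠ 0) :
    ∀ a : Idx k r, Sum.elim (fun _ : Fin k × Fin 2 => (1 : F)) w a ≠ 0
  | .inl _ => one_ne_zero
  | .inr i => hw i

/-- A vector of the plane placed in block `i`. -/
def emb (i : Fin k) (u : Fin 2 → F) : Idx k r → F :=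
  Sum.elim (fun p => if p.1 = i then u p.2 else 0) 0

theorem emb_inl (i : Fin k) (u : Fin 2 → F) (p : Fin k × Fin 2) :
    (emb i u : Idx k r → F) (.inl p) = if p.1 = i then u p.2 else 0 := rfl

theorem emb_inr (i : Fin k) (u : Fin 2 → F) (a : Fin r) : (emb i u : Idx k r → F) (.inr a) = 0 := rfl

theorem diag_emb (w : Fin r → F) (i : Fin k) (u : Fin 2 → F) :
    diagForm w (emb i u : Idx k r → F) = plane F u := by
  rw [diagForm_apply, Finset.sum_eq_single i (fun j _ hj => by simp [emb_inl, hj, plane_apply]) (by simp)]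
  simp [emb_inl, emb_inr]

theorem polar_emb (w : Fin r → F) (i : Fin k) (u : Fin 2 → F) (x : Idx k r → F) :
    QuadraticMap.polar (⇑(diagForm w)) (emb i u) x =
      QuadraticMap.polar (⇑(plane F)) u (fun j => x (.inl (i, j))) := by
  rw [diagForm, plane, polar_wss, polar_wss, Fintype.sum_sum_type, Fintype.sum_prod_type,
    Finset.sum_eq_single i (fun j _ hj => by simp [emb_inl, hj]) (by simp)]
  simp [emb_inl, emb_inr]

/-- Supported in one plane or on one line. -/
def Blk (v : Idx k r → F) : Prop :=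
  (∃ i u, v = emb i u) ∨ ∃ i c, v = Pi.single (Sum.inr i) c

/-- The blockwise action of one element, as a map. -/
noncomputable def baseLin (d : Fin k → Matrix (Fin 2) (Fin 2) F) (c : Fin r → F) :
    Module.End F (Idx k r → F) :=
  LinearMap.pi fun a => Sum.elim
    (fun p : Fin k × Fin 2 => (LinearMap.proj p.2).comp ((Matrix.toLin' (d p.1)).comp
      (LinearMap.funLeft F F fun j : Fin 2 => (Sum.inl (p.1, j) : Idx k r))))
    (fun i => c i • LinearMap.proj (Sum.inr i : Idx k r)) a

theorem baseLin_inl (d : Fin k → Matrix (Fin 2) (Fin 2) F) (c : Fin r → F) (x : Idx k r → F)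
    (p : Fin k × Fin 2) :
    baseLin d c x (.inl p) = (d p.1 *ᵥ fun j => x (.inl (p.1, j))) p.2 := by
  simp only [baseLin, LinearMap.pi_apply, Sum.elim_inl, LinearMap.comp_apply, LinearMap.proj_apply,
    Matrix.toLin'_apply]
  rfl

theorem baseLin_inr (d : Fin k → Matrix (Fin 2) (Fin 2) F) (c : Fin r → F) (x : Idx k r → F) (i : Fin r) :
    baseLin d c x (.inr i) = c i * x (.inr i) := by
  simp only [baseLin, LinearMap.pi_apply, Sum.elim_inr, LinearMap.smul_apply, LinearMap.proj_apply, smul_eq_mul]

theorem baseLin_mul (d d' : Fin k → Matrix (Fin 2) (Fin 2) F) (c c' : Fin r → F) :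
    baseLin (fun i => d i * d' i) (fun i => c i * c' i) = baseLin d c * baseLin d' c' := by
  refine LinearMap.ext fun x => funext fun a => ?_
  rw [Module.End.mul_apply]
  rcases a with p | i
  · rw [baseLin_inl, baseLin_inl, ← Matrix.mulVec_mulVec]
    simp only [baseLin_inl]
  · rw [baseLin_inr, baseLin_inr, baseLin_inr, mul_assoc]

theorem baseLin_one : baseLin (k := k) (r := r) (fun _ => (1 : Matrix (Fin 2) (Fin 2) F)) (fun _ => 1) = 1 := by
  refine LinearMap.ext fun x => funext fun a => ?_
  rw [Module.End.one_apply]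
  rcases a with p | i
  · rw [baseLin_inl, Matrix.one_mulVec]
  · rw [baseLin_inr, one_mul]

/-- The blockwise action of a tuple. -/
noncomputable def baseEnd :
    (Fin k → Cfsg.isometryGroup F (⇑(plane F))) × (Fin r → ℤˣ) →* Module.End F (Idx k r → F) where
  toFun m := baseLin (fun i => mat (plane F) (m.1 i)) (fun i => ((m.2 i : ℤ) : F))
  map_one' := by
    rw [← baseLin_one]
    simp [mat]
  map_mul' m m' := by
    rw [← baseLin_mul]
    simp [mat]

theorem baseEnd_apply (m : (Fin k → Cfsg.isometryGroup F (⇑(plane F))) × (Fin r → ℤˣ)) :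
    baseEnd m = baseLin (fun i => mat (plane F) (m.1 i)) (fun i => ((m.2 i : ℤ) : F)) := rfl

theorem baseEnd_inl (m : (Fin k → Cfsg.isometryGroup F (⇑(plane F))) × (Fin r → ℤˣ))
    (x : Idx k r → F) (p : Fin k × Fin 2) :
    baseEnd m x (.inl p) = (mat (plane F) (m.1 p.1) *ᵥ fun j => x (.inl (p.1, j))) p.2 := by
  rw [baseEnd_apply, baseLin_inl]

theorem baseEnd_inr (m : (Fin k → Cfsg.isometryGroup F (⇑(plane F))) × (Fin r → ℤˣ))
    (x : Idx k r → F) (i : Fin r) :
    baseEnd m x (.inr i) = ((m.2 i : ℤ) : F) * x (.inr i) := by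
  rw [baseEnd_apply, baseLin_inr]

attribute [irreducible] baseLin baseEnd

theorem baseEnd_preserves (w : Fin r → F)
    (m : (Fin k → Cfsg.isometryGroup F (⇑(plane F))) × (Fin r → ℤˣ)) (x : Idx k r → F) :
    diagForm w (baseEnd m x) = diagForm w x := by
  rw [diagForm_apply, diagForm_apply]
  refine congrArg₂ (· + ·) (Finset.sum_congr rfl fun i _ => ?_) (Finset.sum_congr rfl fun i _ => ?_)
  · have h : (fun j => baseEnd m x (.inl (i, j))) = mat (plane F) (m.1 i) *ᵥ fun j => x (.inl (i, j)) :=
      funext fun j => baseEnd_inl m x (i, j)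
    rw [h]
    exact (mem_iff (plane F)).mp (m.1 i).2 _
  · rw [baseEnd_inr]
    rcases Int.units_eq_one_or (m.2 i) with h | h <;> simp [h]

/-- The blockwise isometries. -/
noncomputable def baseHom (w : Fin r → F) :
    (Fin k → Cfsg.isometryGroup F (⇑(plane F))) × (Fin r → ℤˣ) →*
      Cfsg.isometryGroup F (⇑(diagForm (k := k) w)) :=
  mkHom (diagForm w) baseEnd (baseEnd_preserves w)

theorem baseHom_inl (w : Fin r → F) (m : (Fin k → Cfsg.isometryGroup F (⇑(plane F))) × (Fin r → ℤˣ))
    (x : Idx k r → F) (p : Fin k × Fin 2) :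
    (mat (diagForm w) (baseHom w m) *ᵥ x) (.inl p) =
      (mat (plane F) (m.1 p.1) *ᵥ fun j => x (.inl (p.1, j))) p.2 := by
  rw [baseHom, mkHom_mulVec, baseEnd_inl]

theorem baseHom_inr (w : Fin r → F) (m : (Fin k → Cfsg.isometryGroup F (⇑(plane F))) × (Fin r → ℤˣ))
    (x : Idx k r → F) (i : Fin r) :
    (mat (diagForm w) (baseHom w m) *ᵥ x) (.inr i) = ((m.2 i : ℤ) : F) * x (.inr i) := by
  rw [baseHom, mkHom_mulVec, baseEnd_inr]

/-- The permutations of the planes. -/
noncomputable def topHom (w : Fin r → F) :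
    Equiv.Perm (Fin k) →* Cfsg.isometryGroup F (⇑(diagForm (k := k) w)) :=
  mkHom (diagForm w)
    { toFun := fun σ =>
        { toFun := fun x => Sum.elim (fun p => x (.inl (σ.symm p.1, p.2))) (fun i => x (.inr i))
          map_add' := fun x y => funext fun a => by rcases a with p | i <;> rfl
          map_smul' := fun c x => funext fun a => by rcases a with p | i <;> rfl }
      map_one' := LinearMap.ext fun x => funext fun a => by rcases a with p | i <;> rfl
      map_mul' := fun σ τ => LinearMap.ext fun x => funext fun a => by rcases a with p | i <;> rfl }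
    (fun σ x => by
      rw [diagForm_apply, diagForm_apply]
      refine congrArg₂ (· + ·) ?_ rfl
      exact Equiv.sum_comp σ.symm (fun i => plane F fun j => x (.inl (i, j))))

theorem topHom_inl (w : Fin r → F) (σ : Equiv.Perm (Fin k)) (x : Idx k r → F) (p : Fin k × Fin 2) :
    (mat (diagForm w) (topHom w σ) *ᵥ x) (.inl p) = x (.inl (σ.symm p.1, p.2)) := by
  rw [topHom, mkHom_mulVec]; rfl

theorem topHom_inr (w : Fin r → F) (σ : Equiv.Perm (Fin k)) (x : Idx k r → F) (i : Fin r) :
    (mat (diagForm w) (topHom w σ) *ᵥ x) (.inr i) = x (.inr i) := by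
  rw [topHom, mkHom_mulVec]; rfl

theorem top_mul_base (w : Fin r → F) (σ : Equiv.Perm (Fin k))
    (d : Fin k → Cfsg.isometryGroup F (⇑(plane F))) (ε : Fin r → ℤˣ) :
    topHom w σ * baseHom w (d, ε) = baseHom w (d ∘ σ.symm, ε) * topHom w σ := by
  refine ext_mulVec _ fun x => funext fun a => ?_
  rw [mat_mul, mat_mul]
  rcases a with p | i
  · rw [topHom_inl, baseHom_inl, baseHom_inl]
    simp only [topHom_inl, Function.comp_apply]
  · rw [topHom_inr, baseHom_inr, baseHom_inr, topHom_inr]

theorem baseHom_injective (h2 : (2 : F) ≠ 0) (w : Fin r → F) : Function.Injective (baseHom (k := k) w) := by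
  intro m m' h
  refine Prod.ext (funext fun i => ext_mulVec _ fun u => funext fun j => ?_) (funext fun i => ?_)
  · have := congrArg (fun g => (mat (diagForm w) g *ᵥ emb i u) (.inl (i, j))) h
    simpa [baseHom_inl, emb_inl] using this
  · have := congrArg (fun g => (mat (diagForm w) g *ᵥ (Pi.single (Sum.inr i) 1 : Idx k r → F)) (.inr i)) h
    simp only [baseHom_inr, Pi.single_eq_same, mul_one] at this
    rcases Int.units_eq_one_or (m.2 i) with e | e <;> rcases Int.units_eq_one_or (m'.2 i) with e' | e' <;>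
      simp [e, e'] at this ⊢
    · exact h2 (by linear_combination this)
    · exact h2 (by linear_combination -this)

theorem base_eq_top (w : Fin r → F) (m : (Fin k → Cfsg.isometryGroup F (⇑(plane F))) × (Fin r → ℤˣ))
    (σ : Equiv.Perm (Fin k)) (h : baseHom w m = topHom w σ) : σ = 1 := by
  refine Equiv.ext fun i => ?_
  by_contra hne
  have := congrArg (fun g => (mat (diagForm w) g *ᵥ emb i (fun _ => (1 : F))) (.inl (σ i, 0))) h
  have hne' : σ i ≠ i := hne
  simp only [baseHom_inl, topHom_inl, emb_inl, Equiv.symm_apply_apply, if_neg hne', if_pos] at this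
  rw [show (fun _ : Fin 2 => (0 : F)) = 0 from rfl, Matrix.mulVec_zero] at this
  exact zero_ne_one this

theorem single_refl (w : Fin r → F) (i : Fin k) (u : Fin 2 → F) (hu : plane F u ≠ 0) :
    baseHom w (Pi.mulSingle i (refl (plane F) u hu), 1) =
      refl (diagForm w) (emb i u) (by rw [diag_emb]; exact hu) := by
  refine ext_mulVec _ fun x => funext fun a => ?_
  rw [mat_refl, diag_emb, polar_emb]
  rcases a with p | a
  · rw [baseHom_inl, Pi.sub_apply, Pi.smul_apply, emb_inl]
    by_cases hp : p.1 = i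
    · obtain ⟨p1, p2⟩ := p
      subst hp
      simp [mat_refl]
    · simp [hp, mat]
  · simp [baseHom_inr, emb_inr]

theorem rest_refl (w : Fin r → F) (hw : ∀ i, w i ≠ 0) (i : Fin r) :
    ∃ hv, baseHom (k := k) w (1, Pi.mulSingle i (-1)) =
      refl (diagForm w) (Pi.single (Sum.inr i) 1) hv := by
  have hv : diagForm w (Pi.single (Sum.inr i) 1 : Idx k r → F) = w i := by
    rw [diagForm_apply, Finset.sum_eq_single (a := i) (s := (Finset.univ : Finset (Fin r)))
      (fun j _ hj => by simp [hj]) (by simp)]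
    simp [plane_apply]
  refine ⟨by rw [hv]; exact hw i, ext_mulVec _ fun x => funext fun a => ?_⟩
  have hp : QuadraticMap.polar (⇑(diagForm w)) (Pi.single (Sum.inr i) 1) x = 2 * (w i * x (.inr i)) := by
    rw [diagForm, polar_wss, Finset.sum_eq_single (Sum.inr i) (fun b _ hb => by simp [hb]) (by simp)]
    simp
  rw [mat_refl, hv, hp]
  rcases a with p | a
  · simp [baseHom_inl, mat]
  · rw [baseHom_inr]
    by_cases ha : a = i
    · subst ha
      have := hw a
      simp
      field_simp
      ring
    · simp [ha]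

theorem refl_of_det (h2 : (2 : F) ≠ 0) (g : Cfsg.isometryGroup F (⇑(plane F))) (hg : detHom (plane F) g = -1) :
    ∃ v hv, g = refl (plane F) v hv := by
  set M := mat (plane F) g with hM
  set a := M 0 0 with ha
  set b := M 0 1 with hb
  set c := M 1 0 with hc
  set d := M 1 1 with hd
  have hx : ∀ x : Fin 2 → F, M *ᵥ x = ![a * x 0 + b * x 1, c * x 0 + d * x 1] := fun x => by
    funext i; fin_cases i <;> simp [Matrix.mulVec, dotProduct, Fin.sum_univ_two, ha, hb, hc, hd]
  have hiso : ∀ x, plane F (M *ᵥ x) = plane F x := (mem_iff (plane F)).mp g.2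
  have h10 := hiso ![1, 0]
  have h11 := hiso ![1, 1]
  have h01 := hiso ![0, 1]
  simp [hx, plane_apply] at h10 h01 h11
  have hdet : a * d - b * c = -1 := by
    have := congrArg Units.val hg
    rw [Units.val_neg, Units.val_one] at this
    rw [← this]
    exact (Matrix.det_fin_two M).symm
  have hab : a * b + c * d = 0 := by
    have : 2 * (a * b + c * d) = 0 := by linear_combination h11 - h10 - h01
    exact (mul_eq_zero.mp this).resolve_left h2
  have hda : d = -a := by linear_combination a * hdet - d * h10 + c * hab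
  have hbc : b = c := by linear_combination -c * hdet - b * h10 + a * hab
  by_cases ha1 : a = 1
  · have hc0 : c = 0 := by
      have : c * c = 0 := by linear_combination h10 - (a + 1) * ha1
      exact mul_self_eq_zero.mp this
    refine ⟨![0, 1], by simp [plane_apply], ext_mulVec _ fun x => ?_⟩
    rw [mat_refl, ← hM, hx, plane, polar_wss, ← plane, plane_apply]
    funext i; fin_cases i <;> simp [Fin.sum_univ_two, hda, hbc, ha1, hc0] <;> ring
  · have hN : plane F ![1 - a, -c] = 2 - 2 * a := by
      rw [plane_apply]; simp; linear_combination h10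
    have hne : (2 : F) - 2 * a ≠ 0 := fun h => ha1 (by
      have : 2 * (1 - a) = 0 := by linear_combination h
      exact (sub_eq_zero.mp ((mul_eq_zero.mp this).resolve_left h2)).symm)
    refine ⟨![1 - a, -c], by rw [hN]; exact hne, ext_mulVec _ fun x => ?_⟩
    rw [mat_refl, hN, ← hM, hx, plane, polar_wss]
    funext i
    have h1a : (1 : F) - a ≠ 0 := sub_ne_zero.mpr (Ne.symm ha1)
    fin_cases i <;> simp [Fin.sum_univ_two, hda, hbc] <;> field_simp
    · ring
    · linear_combination (x 1) * h10

end Cfsg.Lib.OrthSylowTwo
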