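import Cfsg.Agent.Classical.OrthSylowTwo.Transport

/-!
# The standard forms
-/

set_option autoImplicit false
set_option linter.style.haveILetI false
set_option linter.unusedSectionVars false

namespace Cfsg.Lib.OrthSylowTwo

open Cfsg.Lib.Classical Cfsg.Lib.Classical.Refl
open Matrix

universe u

variable {F : Type u} [Field F] [Fintype F]

theorem one_lt_q : 1 < Fintype.card F := Fintype.one_lt_card

theorem plane_valuation [DecidableEq F] (hF : Odd (Fintype.card F)) :
    (Nat.card (Cfsg.isometryGroup F (⇑(plane F)))).factorization 2 =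
      padicValNat 2 (Fintype.card F ^ 2 - 1) := by
  rw [Nat.factorization_def _ Nat.prime_two]
  set q := Fintype.card F with hq
  have h1 : 1 < q := one_lt_q
  have h2 : (2 : F) ≠ 0 := Refl.two_ne_zero_of_odd hF
  have hp := padic_plus hF h1 one_ne_zero
  rw [pow_one] at hp
  have hodd := Nat.odd_iff.mp hF
  have hv1 : padicValNat 2 1 = 0 := padicValNat.one
  by_cases h4 : q % 4 = 1
  · rw [card_plane (HypQuad.plusForm 1 F) h2 (HypQuad.plusForm_nondegenerate 1) (by simp) fun b => ?_]
    · rw [show ⇑(HypQuad.plusForm 1 F) = Cfsg.quadFormPlus 1 F from funext (HypQuad.plusForm_apply 1),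
        OrthCard.card_plus 0, Nat.card_eq_fintype_card, ← hq, OrthCard.prodQ, padic_order hF h1 _ _ _
          (by simp; omega)]
      have := hp.1 h4
      simp only [zero_add, pow_one, Nat.factorial_zero, hv1, zero_mul, add_zero] at *
      omega
    · rw [funext (HypQuad.plusForm_apply (F := F) 1), disc_plus rfl hF le_rfl b, ← hq]
      rw [Nat.even_iff]; omega
  · have hab : ∀ z₁ z₂ : F, z₁ ^ 2 + 0 * z₁ * z₂ + 1 * z₂ ^ 2 = 0 → z₁ = 0 ∧ z₂ = 0 := by
      intro z₁ z₂ h
      by_cases hz : z₂ = 0
      · subst hz; exact ⟨by simpa using h, rfl⟩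
      · exfalso
        have : IsSquare (-1 : F) := ⟨z₁ / z₂, by field_simp; linear_combination -h⟩
        rw [FiniteField.isSquare_neg_one_iff, ← hq] at this
        omega
    rw [card_plane (minusForm 0 F 0 1) h2 (minusForm_nondegenerate' 0 hab) (by simp) fun b => ?_]
    · rw [minusForm_coe, OrthCard.card_minus hab 0, Nat.card_eq_fintype_card, ← hq, OrthCard.prodQ,
        padic_order hF h1 _ _ _ (by omega)]
      have := hp.2 h4
      simp only [zero_add, pow_one, Nat.factorial_zero, hv1, zero_mul, add_zero] at *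
      omega
    · rw [minusForm_coe, disc_minus rfl hF 0 0 1 hab b, ← hq]
      rw [Nat.even_iff]; omega

theorem odd_squares (hF : Odd (Fintype.card F)) (m : ℕ) (hm : 2 ≤ m) :
    SquaresComm (Cfsg.Omega F (Cfsg.quadFormOdd m F)) := by
  classical
  have h1 : 1 < Fintype.card F := one_lt_q
  have h2 : (2 : F) ≠ 0 := Refl.two_ne_zero_of_odd hF
  rw [← oddForm_coe]
  refine squaresComm_nonsquare (oddForm m F) h2 (oddForm_nondegenerate h2 m) (k := m) (r := 1) hm le_rfl
    (by simp; omega) ?_
  rw [plane_valuation hF, Nat.factorization_def _ Nat.prime_two, oddForm_coe, OrthCard.card_odd h2,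
    Nat.card_eq_fintype_card, OrthCard.prodQ]
  rw [show 2 * Fintype.card F ^ m ^ 2 = 2 * Fintype.card F ^ m ^ 2 * 1 from (mul_one _).symm,
    padic_order hF h1 _ _ _ one_ne_zero, padicValNat.one]
  omega

theorem plus_squares (hF : Odd (Fintype.card F)) (m : ℕ) (hm : 1 ≤ m) (hm' : Even m ∨ 4 ≤ m) :
    SquaresComm (Cfsg.Omega F (Cfsg.quadFormPlus m F)) := by
  classical
  set q := Fintype.card F with hq
  have h1 : 1 < q := one_lt_q
  have h2 : (2 : F) ≠ 0 := Refl.two_ne_zero_of_odd hF
  have hm2 : 2 ≤ m := by rcases hm' with ⟨j, rfl⟩ | h <;> omega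
  have hsplit := factorial_split (m := m) (by omega)
  have hp := padic_plus hF h1 (m := m) (by omega)
  have hmul : m * padicValNat 2 (q ^ 2 - 1) = (m - 1) * padicValNat 2 (q ^ 2 - 1) + padicValNat 2 (q ^ 2 - 1) := by
    rw [← Nat.succ_mul]; congr 1; omega
  obtain ⟨j, rfl⟩ : ∃ j, m = j + 1 := ⟨m - 1, by omega⟩
  rw [Nat.add_sub_cancel] at hsplit hmul
  have hcoe : ⇑(HypQuad.plusForm (j + 1) F) = Cfsg.quadFormPlus (j + 1) F := funext (HypQuad.plusForm_apply _)
  rw [← hcoe]
  have hν : (Nat.card (Cfsg.isometryGroup F (⇑(HypQuad.plusForm (j + 1) F)))).factorization 2 =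
      1 + padicValNat 2 (q ^ (j + 1) - 1) + (j * padicValNat 2 (q ^ 2 - 1) + padicValNat 2 j.factorial) := by
    rw [Nat.factorization_def _ Nat.prime_two, hcoe, OrthCard.card_plus, Nat.card_eq_fintype_card, ← hq,
      OrthCard.prodQ, padic_order hF h1 _ _ _ (pow_sub_ne h1 (by omega))]
  by_cases h4 : q ^ (j + 1) % 4 = 1
  · refine squaresComm_square (HypQuad.plusForm (j + 1) F) h2 (HypQuad.plusForm_nondegenerate _) (k := j + 1) hm2
      (by simp; omega) (fun b => ?_) ?_
    · rw [hcoe, disc_plus rfl hF (by omega) b, half_mul_parity hF]; exact h4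
    · rw [hν, plane_valuation hF, ← hq]
      have := hp.1 h4
      omega
  · have hk : 2 ≤ j := by
      rcases hm' with ⟨i, hi⟩ | h
      · exfalso
        refine h4 ?_
        have := Nat.odd_iff.mp hF
        rw [hi, ← two_mul, pow_mul, Nat.pow_mod]
        have : q ^ 2 % 4 = 1 := by
          rw [Nat.pow_mod]
          rcases (by omega : q % 4 = 1 ∨ q % 4 = 3) with e | e <;> simp [e]
        simp [this]
      · omega
    refine squaresComm_nonsquare (HypQuad.plusForm (j + 1) F) h2 (HypQuad.plusForm_nondegenerate _) (k := j) (r := 2)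
      hk (by omega) (by simp; omega) ?_
    rw [hν, plane_valuation hF, ← hq]
    have := hp.2 h4
    omega

theorem minus_squares (hF : Odd (Fintype.card F)) (j : ℕ) (hj : 3 ≤ j) (a b : F)
    (hab : ∀ z₁ z₂ : F, z₁ ^ 2 + a * z₁ * z₂ + b * z₂ ^ 2 = 0 → z₁ = 0 ∧ z₂ = 0) :
    SquaresComm (Cfsg.Omega F (Cfsg.quadFormMinus j F a b)) := by
  classical
  set q := Fintype.card F with hq
  have h1 : 1 < q := one_lt_q
  have h2 : (2 : F) ≠ 0 := Refl.two_ne_zero_of_odd hF
  have hsplit := factorial_split (m := j + 1) (by omega)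
  have hp := padic_plus hF h1 (m := j + 1) (by omega)
  have hmul : (j + 1) * padicValNat 2 (q ^ 2 - 1) = j * padicValNat 2 (q ^ 2 - 1) + padicValNat 2 (q ^ 2 - 1) := by ring
  rw [Nat.add_sub_cancel] at hsplit
  rw [← minusForm_coe]
  have hν : (Nat.card (Cfsg.isometryGroup F (⇑(minusForm j F a b)))).factorization 2 =
      1 + padicValNat 2 (q ^ (j + 1) + 1) + (j * padicValNat 2 (q ^ 2 - 1) + padicValNat 2 j.factorial) := by
    rw [Nat.factorization_def _ Nat.prime_two, minusForm_coe, OrthCard.card_minus hab, Nat.card_eq_fintype_card,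
      ← hq, OrthCard.prodQ, padic_order hF h1 _ _ _ (by omega)]
  by_cases h4 : q ^ (j + 1) % 4 = 1
  · refine squaresComm_nonsquare (minusForm j F a b) h2 (minusForm_nondegenerate' _ hab) (k := j) (r := 2)
      (by omega) (by omega) (by simp; omega) ?_
    rw [hν, plane_valuation hF, ← hq]
    have := hp.1 h4
    omega
  · refine squaresComm_square (minusForm j F a b) h2 (minusForm_nondegenerate' _ hab) (k := j + 1) (by omega)
      (by simp; omega) (fun b' => ?_) ?_
    · rw [minusForm_coe, disc_minus rfl hF j a b hab b', half_mul_parity hF]; exact h4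
    · rw [hν, plane_valuation hF, ← hq]
      have := hp.2 h4
      omega

end Cfsg.Lib.OrthSylowTwo
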