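import Cfsg.Agent.Classical.OrthSylowTwo.Main
import Cfsg.Agent.Classical.OrthSylowTwo.Count
import Cfsg.Agent.Known.FormNormal
import Cfsg.Agent.Classical.Orth.Orders
import Cfsg.Agent.Classical.Orth.Discriminant

/-!
# Diagonalisation of the standard forms and transport of the statement
-/

set_option autoImplicit false
set_option linter.style.haveILetI false
set_option linter.unusedSectionVars false

namespace Cfsg.Lib.OrthSylowTwo

open Cfsg.Lib.Classical Cfsg.Lib.Classical.Refl
open Matrix

universe u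

/-- Squares in every Sylow 2-subgroup are commutators. -/
def SquaresComm (G : Type*) [Group G] : Prop :=
  ∀ S : Sylow 2 G, ∀ x : S.toSubgroup, x ^ 2 ∈ commutator S.toSubgroup

theorem SquaresComm.of_mulEquiv {A B : Type*} [Group A] [Group B] [Finite A] (e : A ≃* B) (h : SquaresComm A) :
    SquaresComm B := by
  intro S x
  let T : Sylow 2 A := S.comapOfInjective e.toMonoidHom e.injective
    (fun y _ => ⟨e.symm y, e.apply_symm_apply y⟩)
  let f : S.toSubgroup →* T.toSubgroup :=
    { toFun := fun y => ⟨e.symm y, show e (e.symm y) ∈ S.toSubgroup by rw [e.apply_symm_apply]; exact y.2⟩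
      map_one' := Subtype.ext (map_one e.symm)
      map_mul' := fun a b => Subtype.ext (map_mul e.symm _ _) }
  let g : T.toSubgroup →* S.toSubgroup :=
    { toFun := fun y => ⟨e y, y.2⟩
      map_one' := Subtype.ext (map_one e)
      map_mul' := fun a b => Subtype.ext (map_mul e _ _) }
  have hgf : g (f x) = x := Subtype.ext (e.apply_symm_apply x)
  have h1 : g ((f x) ^ 2) ∈ (commutator T.toSubgroup).map g := ⟨_, h T (f x), rfl⟩
  rw [map_pow, hgf] at h1
  have hle : (commutator T.toSubgroup).map g ≤ commutator S.toSubgroup := by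
    rw [commutator_def, Subgroup.map_commutator]
    exact Subgroup.commutator_mono le_top le_top
  exact hle h1

variable {F : Type u} [Field F]

section Equiv

variable {ι κ : Type} [Fintype ι] [DecidableEq ι] [Fintype κ] [DecidableEq κ]
  (Q : QuadraticForm F (ι → F)) (Q' : QuadraticForm F (κ → F)) (φ : (κ → F) ≃ₗ[F] (ι → F))

/-- Conjugation of an isometry of `Q'` along `φ`. -/
noncomputable def conjEnd : Cfsg.isometryGroup F (⇑Q') →* Module.End F (ι → F) where
  toFun g := φ.toLinearMap ∘ₗ Matrix.mulVecLin (mat Q' g) ∘ₗ φ.symm.toLinearMap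
  map_one' := LinearMap.ext fun x => by
    show φ (mat Q' 1 *ᵥ φ.symm x) = x
    rw [show mat Q' (1 : Cfsg.isometryGroup F (⇑Q')) = 1 from rfl, one_mulVec, LinearEquiv.apply_symm_apply]
  map_mul' a b := LinearMap.ext fun x => by
    show φ (mat Q' (a * b) *ᵥ φ.symm x) = φ (mat Q' a *ᵥ φ.symm (φ (mat Q' b *ᵥ φ.symm x)))
    rw [LinearEquiv.symm_apply_apply, mat_mul]

theorem exists_equiv (h : ∀ x, Q (φ x) = Q' x) :
    Nonempty (Cfsg.isometryGroup F (⇑Q') ≃* Cfsg.isometryGroup F (⇑Q)) := by
  have h' : ∀ y, Q' (φ.symm y) = Q y := fun y => by rw [← h, LinearEquiv.apply_symm_apply]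
  have hA : ∀ m x, Q (conjEnd Q' φ m x) = Q x := fun m x => by
    show Q (φ (mat Q' m *ᵥ φ.symm x)) = Q x
    rw [h, (mem_iff Q').mp m.2, h']
  have hB : ∀ m x, Q' (conjEnd Q φ.symm m x) = Q' x := fun m x => by
    show Q' (φ.symm (mat Q m *ᵥ φ.symm.symm x)) = Q' x
    rw [h', (mem_iff Q).mp m.2, LinearEquiv.symm_symm, h]
  refine ⟨MonoidHom.toMulEquiv (mkHom Q _ hA) (mkHom Q' _ hB) ?_ ?_⟩
  · refine MonoidHom.ext fun g => ext_mulVec Q' fun x => ?_
    rw [MonoidHom.comp_apply, mkHom_mulVec]
    show φ.symm (mat Q (mkHom Q _ hA g) *ᵥ φ.symm.symm x) = mat Q' g *ᵥ x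
    rw [mkHom_mulVec, LinearEquiv.symm_symm]
    show φ.symm (φ (mat Q' g *ᵥ φ.symm (φ x))) = _
    simp
  · refine MonoidHom.ext fun g => ext_mulVec Q fun x => ?_
    rw [MonoidHom.comp_apply, mkHom_mulVec]
    show φ (mat Q' (mkHom Q' _ hB g) *ᵥ φ.symm x) = mat Q g *ᵥ x
    rw [mkHom_mulVec]
    show φ (φ.symm (mat Q g *ᵥ φ.symm.symm (φ.symm x))) = _
    simp

theorem omega_equiv {G H : Type*} [Group G] [Group H] (e : G ≃* H) :
    Nonempty (commutator G ≃* commutator H) :=
  ⟨((commutator G).equivMapOfInjective e.toMonoidHom e.injective).trans (MulEquiv.subgroupCongr (by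
    rw [commutator_def, Subgroup.map_commutator, Subgroup.map_top_of_surjective _ e.surjective, commutator_def]))⟩

/-- An orthogonal family of the right size and values gives an isometry onto a diagonal form. -/
theorem exists_diag_equiv (w : κ → F) (hw : ∀ a, w a ≠ 0) (h2 : (2 : F) ≠ 0)
    (hc : Fintype.card κ = Fintype.card ι) (f : κ → ι → F) (hf : ∀ a, Q (f a) = w a)
    (ho : ∀ a b, a ≠ b → QuadraticMap.polar (⇑Q) (f a) (f b) = 0) :
    ∃ φ : (κ → F) ≃ₗ[F] (ι → F), ∀ x, Q (φ x) = QuadraticMap.weightedSumSquares F w x := by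
  classical
  let L : (κ → F) →ₗ[F] (ι → F) := Fintype.linearCombination F f
  have hL : ∀ x, Q (L x) = QuadraticMap.weightedSumSquares F w x := by
    intro x
    rw [show L x = ∑ a, x a • f a from Fintype.linearCombination_apply (R := F) f x,
      QuadraticMap.weightedSumSquares_apply]
    suffices ∀ s : Finset κ, Q (∑ a ∈ s, x a • f a) = ∑ a ∈ s, w a • (x a * x a) from this Finset.univ
    intro s
    induction s using Finset.induction_on with
    | empty => simp
    | insert a s has ih =>
      rw [Finset.sum_insert has, Finset.sum_insert has, QuadraticMap.map_add (f := Q), ih, QuadraticMap.map_smul,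
        hf, show QuadraticMap.polar (⇑Q) (x a • f a) (∑ b ∈ s, x b • f b) = 0 from ?_]
      · simp only [smul_eq_mul]; ring
      · show QuadraticMap.polarBilin Q (x a • f a) (∑ b ∈ s, x b • f b) = 0
        rw [map_sum]
        refine Finset.sum_eq_zero fun b hb => ?_
        show QuadraticMap.polar (⇑Q) (x a • f a) (x b • f b) = 0
        rw [QuadraticMap.polar_smul_left, QuadraticMap.polar_smul_right,
          ho a b (fun e => has (e ▸ hb)), smul_zero, smul_zero]
  have hinj : Function.Injective L := by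
    rw [← LinearMap.ker_eq_bot, Submodule.eq_bot_iff]
    intro x hx
    have hN := (wss_nondegenerate w hw h2).1 x
    refine hN fun y => ?_
    show QuadraticMap.polar (⇑(QuadraticMap.weightedSumSquares F w)) x y = 0
    rw [QuadraticMap.polar, ← hL, ← hL, ← hL, map_add, LinearMap.mem_ker.mp hx]
    simp
  let φ := LinearEquiv.ofBijective L ⟨hinj,
    (LinearMap.injective_iff_surjective_of_finrank_eq_finrank (by simp [hc])).mp hinj⟩
  exact ⟨φ, fun x => hL x⟩

end Equiv

variable [Fintype F] [DecidableEq F]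

/-- Diagonal normal form with all values but one equal to one. -/
theorem exists_diag' {ι : Type} [Fintype ι] [DecidableEq ι] (Q : QuadraticForm F (ι → F)) (h2 : (2 : F) ≠ 0)
    (hQ : (QuadraticMap.polarBilin Q).Nondegenerate) {n : ℕ} (hn : Fintype.card ι = n + 1) :
    ∃ δ : F, δ ≠ 0 ∧ ∃ f : Fin (n + 1) → ι → F, (∀ i, Q (f i) = if i = Fin.last n then δ else 1) ∧
      ∀ i j, i ≠ j → QuadraticMap.polar (⇑Q) (f i) (f j) = 0 := by
  obtain ⟨f, -, hf1, hfl, hfo⟩ := Cfsg.Lib.FormNormal.exists_diag Q h2 n ⊤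
    (by rw [finrank_top, Module.finrank_fintype_fun_eq_card, hn]) (Cfsg.Lib.FormNormal.nd_top Q hQ)
  refine ⟨_, hfl, f, fun i => ?_, hfo⟩
  split_ifs with h
  · rw [h]
  · exact hf1 i h

/-- The discriminant is the last value in an even dimension. -/
theorem disc_last {ι : Type} [Fintype ι] [DecidableEq ι] (Q : QuadraticForm F (ι → F)) (h2 : (2 : F) ≠ 0)
    {n : ℕ} (hn : Fintype.card ι = n + 1) (heven : Even (n + 1)) {δ : F} (hδ : δ ≠ 0) {f : Fin (n + 1) → ι → F}
    (hf : ∀ i, Q (f i) = if i = Fin.last n then δ else 1)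
    (ho : ∀ i j, i ≠ j → QuadraticMap.polar (⇑Q) (f i) (f j) = 0)
    {P : Prop} (hdisc : ∀ b : Module.Basis (Fin (n + 1)) F (ι → F),
      IsSquare (Matrix.of (fun i j => QuadraticMap.polar (⇑Q) (b i) (b j))).det ↔ P) :
    IsSquare δ ↔ P := by
  obtain ⟨φ, hφ⟩ := exists_diag_equiv Q (fun i => if i = Fin.last n then δ else 1)
    (fun i => by split_ifs; exacts [hδ, one_ne_zero]) h2 (by simp [hn]) f hf ho
  let b := (Pi.basisFun F (Fin (n + 1))).map φ
  rw [← hdisc b, show (Matrix.of fun i j => QuadraticMap.polar (⇑Q) (b i) (b j)) =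
    Matrix.diagonal fun i => 2 * (if i = Fin.last n then δ else 1) by
      ext i j
      show QuadraticMap.polar (⇑Q) (b i) (b j) = _
      rw [show QuadraticMap.polar (⇑Q) (b i) (b j) = QuadraticMap.polar
        (⇑(QuadraticMap.weightedSumSquares F fun i => if i = Fin.last n then δ else 1))
          (Pi.single i (1 : F)) (Pi.single j 1) by
        simp [QuadraticMap.polar, b, ← hφ, map_add], polar_wss, Matrix.diagonal_apply,
        Finset.sum_eq_single i (fun c _ hc => by simp [hc]) (by simp)]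
      by_cases hij : i = j
      · subst hij; simp
      · simp [hij, Ne.symm hij]]
  rw [Matrix.det_diagonal, Finset.prod_mul_distrib, Finset.prod_const, Finset.card_univ, Fintype.card_fin,
    Fintype.prod_ite_eq']
  obtain ⟨j, hj⟩ := heven
  rw [hj, ← two_mul, pow_mul']
  constructor
  · rintro ⟨c, rfl⟩
    exact ⟨2 ^ j * c, by ring⟩
  · rintro ⟨c, hc⟩
    refine ⟨c / 2 ^ j, ?_⟩
    field_simp
    linear_combination hc

/-- The plane and a two-dimensional form of square discriminant have isometric groups. -/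
theorem card_plane {ι : Type} [Fintype ι] [DecidableEq ι] (Q : QuadraticForm F (ι → F)) (h2 : (2 : F) ≠ 0)
    (hQ : (QuadraticMap.polarBilin Q).Nondegenerate) (hn : Fintype.card ι = 2)
    (hdisc : ∀ b : Module.Basis (Fin 2) F (ι → F),
      IsSquare (Matrix.of (fun i j => QuadraticMap.polar (⇑Q) (b i) (b j))).det) :
    Nat.card (Cfsg.isometryGroup F (⇑(plane F))) = Nat.card (Cfsg.isometryGroup F (⇑Q)) := by
  obtain ⟨δ, hδ, f, hf, ho⟩ := exists_diag' Q h2 hQ (n := 1) hn
  obtain ⟨t, rfl⟩ : IsSquare δ :=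
    (disc_last Q h2 hn (by decide) hδ hf ho (P := True) (fun b => iff_true_intro (hdisc b))).mpr trivial
  have ht : t ≠ 0 := left_ne_zero_of_mul hδ
  obtain ⟨φ, hφ⟩ := exists_diag_equiv Q (fun _ : Fin 2 => (1 : F)) (fun _ => one_ne_zero) h2 (by simp [hn])
    ![f 0, t⁻¹ • f 1] (fun i => by
      fin_cases i
      · simp [hf]
      · simp [hf, QuadraticMap.map_smul]; field_simp)
    (fun i j hij => by
      fin_cases i <;> fin_cases j <;>
        first
          | exact absurd rfl hij
          | simp [QuadraticMap.polar_smul_left, QuadraticMap.polar_smul_right, ho])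
  obtain ⟨e⟩ := exists_equiv Q (plane F) φ hφ
  exact Nat.card_congr e.toEquiv

/-- The statement transported along a diagonalisation. -/
theorem squaresComm_of_diag {ι : Type} [Fintype ι] [DecidableEq ι] {k r : ℕ} (Q : QuadraticForm F (ι → F))
    (h2 : (2 : F) ≠ 0) (hk : 2 ≤ k) (w : Fin r → F) (hw : ∀ i, w i ≠ 0)
    (hc : Fintype.card (Idx k r) = Fintype.card ι) (f : Idx k r → ι → F)
    (hf : ∀ a, Q (f a) = Sum.elim (fun _ => 1) w a)
    (ho : ∀ a b, a ≠ b → QuadraticMap.polar (⇑Q) (f a) (f b) = 0)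
    (hcard : (Nat.card (Cfsg.isometryGroup F (⇑Q))).factorization 2 =
      k * (Nat.card (Cfsg.isometryGroup F (⇑(plane F)))).factorization 2 + r + padicValNat 2 k.factorial) :
    SquaresComm (Cfsg.Omega F (⇑Q)) := by
  obtain ⟨φ, hφ⟩ := exists_diag_equiv Q _ (weights_ne hw) h2 hc f hf ho
  obtain ⟨e⟩ := exists_equiv Q (diagForm (k := k) w) φ hφ
  obtain ⟨eO⟩ := omega_equiv e
  refine SquaresComm.of_mulEquiv eO (sq_mem_commutator_diag w h2 hk hw ?_)
  rw [Nat.card_congr e.toEquiv]
  exact hcard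

/-- The splitting of an index set into planes and lines. -/
def idxEquiv (k r : ℕ) : Idx k r ≃ Fin (k * 2 + r) :=
  (Equiv.sumCongr finProdFinEquiv (Equiv.refl _)).trans finSumFinEquiv

/-- The three ways of diagonalising. -/
theorem squaresComm_square {ι : Type} [Fintype ι] [DecidableEq ι] (Q : QuadraticForm F (ι → F)) (h2 : (2 : F) ≠ 0)
    (hQ : (QuadraticMap.polarBilin Q).Nondegenerate) {k : ℕ} (hk : 2 ≤ k) (hn : Fintype.card ι = 2 * k)
    (hdisc : ∀ b : Module.Basis (Fin (2 * k - 1 + 1)) F (ι → F),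
      IsSquare (Matrix.of (fun i j => QuadraticMap.polar (⇑Q) (b i) (b j))).det)
    (hcard : (Nat.card (Cfsg.isometryGroup F (⇑Q))).factorization 2 =
      k * (Nat.card (Cfsg.isometryGroup F (⇑(plane F)))).factorization 2 + padicValNat 2 k.factorial) :
    SquaresComm (Cfsg.Omega F (⇑Q)) := by
  obtain ⟨δ, hδ, f, hf, ho⟩ := exists_diag' Q h2 hQ (n := 2 * k - 1) (by omega)
  obtain ⟨t, rfl⟩ : IsSquare δ :=
    (disc_last Q h2 (by omega) ⟨k, by omega⟩ hδ hf ho (P := True) (fun b => iff_true_intro (hdisc b))).mpr trivial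
  have ht : t ≠ 0 := left_ne_zero_of_mul hδ
  let c : Fin (2 * k - 1 + 1) → F := fun i => if i = Fin.last _ then t⁻¹ else 1
  let e : Idx k 0 ≃ Fin (2 * k - 1 + 1) := (idxEquiv k 0).trans (finCongr (by omega))
  refine squaresComm_of_diag Q h2 hk ![] (fun i => i.elim0) (by simp [hn]; omega) (fun a => c (e a) • f (e a))
    (fun a => ?_) (fun a b hab => ?_) (by simpa using hcard)
  · rw [show (Sum.elim (fun _ => (1 : F)) ![] a : F) = 1 by rcases a with p | i; exacts [rfl, i.elim0],
      QuadraticMap.map_smul, hf, smul_eq_mul]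
    simp only [c]
    split_ifs
    · field_simp
    · simp
  · rw [QuadraticMap.polar_smul_left, QuadraticMap.polar_smul_right, ho _ _ (e.injective.ne hab), smul_zero, smul_zero]

theorem squaresComm_nonsquare {ι : Type} [Fintype ι] [DecidableEq ι] (Q : QuadraticForm F (ι → F)) (h2 : (2 : F) ≠ 0)
    (hQ : (QuadraticMap.polarBilin Q).Nondegenerate) {k r : ℕ} (hk : 2 ≤ k) (hr : 1 ≤ r)
    (hn : Fintype.card ι = 2 * k + r)
    (hcard : (Nat.card (Cfsg.isometryGroup F (⇑Q))).factorization 2 =
      k * (Nat.card (Cfsg.isometryGroup F (⇑(plane F)))).factorization 2 + r + padicValNat 2 k.factorial) :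
    SquaresComm (Cfsg.Omega F (⇑Q)) := by
  obtain ⟨δ, hδ, f, hf, ho⟩ := exists_diag' Q h2 hQ (n := 2 * k + r - 1) (by omega)
  let e : Idx k r ≃ Fin (2 * k + r - 1 + 1) := (idxEquiv k r).trans (finCongr (by omega))
  refine squaresComm_of_diag Q h2 hk (fun i => if i.val + 1 = r then δ else 1)
    (fun i => by split_ifs; exacts [hδ, one_ne_zero]) (by simp [hn]; omega) (fun a => f (e a))
    (fun a => ?_) (fun a b hab => ho _ _ (e.injective.ne hab)) hcard
  rw [hf]
  rcases a with p | i
  · rw [if_neg]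
    · rfl
    · intro h
      have := congrArg Fin.val h
      have := (finProdFinEquiv p).isLt
      simp [e, idxEquiv] at *
      omega
  · have h : e (Sum.inr i) = Fin.last (2 * k + r - 1) ↔ i.val + 1 = r := by
      simp [e, idxEquiv, Fin.ext_iff]
      omega
    simp only [Sum.elim_inr]
    exact if_congr h rfl rfl

end Cfsg.Lib.OrthSylowTwo
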